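import Cfsg.Agent.H2.Extraspecial
import Cfsg.Agent.H7.Comm

/-! `p`-groups of maximal class, I: orders of the terms of the lower central series,
normal subgroups, two-step centralizers. -/

namespace Cfsg.Agent.H2

open Subgroup
open scoped commutatorElement

/-- the lower central series of the whole group (`lcs G 0 = ⊤`, `lcs G 1 = G'`) -/
abbrev lcs (G : Type*) [Group G] (i : ℕ) : Subgroup G := (⊤ : Subgroup G).lowerCentralSeries i

variable {G : Type*} [Group G]

theorem lcs_succ (i : ℕ) : lcs G (i + 1) = ⁅lcs G i, ⊤⁆ := rfl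

theorem lcs_anti {i j : ℕ} (h : i ≤ j) : lcs G j ≤ lcs G i := Subgroup.lowerCentralSeries_antitone ⊤ h

theorem commutator_mem_lcs_succ {i : ℕ} {u : G} (hu : u ∈ lcs G i) (g : G) :
    ⁅u, g⁆ ∈ lcs G (i + 1) := commutator_mem_commutator hu (mem_top g)

theorem commutator_mem_lcs_succ' {i : ℕ} {u : G} (hu : u ∈ lcs G i) (g : G) :
    ⁅g, u⁆ ∈ lcs G (i + 1) := by
  rw [← commutatorElement_inv]; exact inv_mem (commutator_mem_lcs_succ hu g)

theorem commutator_mem_lcs_one (g h : G) : ⁅g, h⁆ ∈ lcs G 1 :=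
  commutator_mem_lcs_succ (i := 0) (mem_top g) h

theorem commutator_mem_lcs {i j : ℕ} {u v : G} (hu : u ∈ lcs G i) (hv : v ∈ lcs G j) :
    ⁅u, v⁆ ∈ lcs G (i + j + 1) := H7.commutator_top_lcs_le i j (commutator_mem_commutator hu hv)

theorem map_lcs_of_surjective {H : Type*} [Group H] {f : G →* H} (hf : Function.Surjective f)
    (i : ℕ) : (lcs G i).map f = lcs H i := by
  rw [map_lowerCentralSeries, map_top_of_surjective f hf]

theorem map_mem_lcs {H : Type*} [Group H] (f : G →* H) {i : ℕ} {u : G} (hu : u ∈ lcs G i) :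
    f u ∈ lcs H i := by
  have := mem_map_of_mem f hu
  rw [map_lowerCentralSeries] at this
  exact Subgroup.lowerCentralSeries_mono i le_top this

theorem map_mem_lcs_iff {H : Type*} [Group H] {f : G →* H} (hf : Function.Surjective f) {i : ℕ}
    (hk : f.ker ≤ lcs G i) {u : G} : f u ∈ lcs H i ↔ u ∈ lcs G i := by
  rw [← map_lcs_of_surjective hf, ← mem_comap, comap_map_eq, sup_eq_left.2 hk]

theorem lcs_succ_lt [Group.IsNilpotent G] {i : ℕ} (h : lcs G i ≠ ⊥) : lcs G (i + 1) < lcs G i := by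
  refine lt_of_le_of_ne (lcs_anti (Nat.le_succ i)) fun e => h ?_
  have : ∀ k, lcs G (i + k) = lcs G i := by
    intro k
    induction k with
    | zero => rfl
    | succ k ih => rw [← add_assoc, lcs_succ, ih, ← lcs_succ, e]
  rw [eq_bot_iff, ← this (Group.nilpotencyClass G), ← Subgroup.lowerCentralSeries_nilpotencyClass]
  exact lcs_anti (Nat.le_add_left _ _)

theorem lcs_ne_bot_of_le {i j : ℕ} (h : i ≤ j) (hj : lcs G j ≠ ⊥) : lcs G i ≠ ⊥ :=
  fun e => hj (le_bot_iff.1 (e ▸ lcs_anti h))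

theorem lcs_le_center {i : ℕ} (h : lcs G (i + 1) = ⊥) : lcs G i ≤ center G := by
  rw [lcs_succ, commutator_eq_bot_iff_le_centralizer, coe_top, centralizer_univ] at h
  exact h

theorem isMulCommutative_iff_lcs_one : IsMulCommutative G ↔ lcs G 1 = ⊥ := by
  constructor
  · intro h
    rw [eq_bot_iff, lcs_succ, commutator_le]
    intro a _ b _
    rw [mem_bot, commutatorElement_eq_one_iff_mul_comm]
    exact h.is_comm.comm a b
  · intro h
    exact ⟨⟨fun a b => mem_center_iff.1 (lcs_le_center (i := 0) h (mem_top b)) a⟩⟩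

section pgroup

variable [Finite G] {p : ℕ} [hp : Fact p.Prime]

theorem mul_card_le_of_lt {M K : Subgroup G} (hK : IsPGroup p K) (h : M < K) :
    p * Nat.card M ≤ Nat.card K := by
  rw [← H3.card_mul_relIndex h.le, mul_comm]
  exact Nat.mul_le_mul_left _ (prime_le_relIndex_of_lt hK h)

theorem pow_mul_card_lcs_le (hG : IsPGroup p G) (j k : ℕ) (h : k = 0 ∨ lcs G (j + k - 1) ≠ ⊥) :
    p ^ k * Nat.card (lcs G (j + k)) ≤ Nat.card (lcs G j) := by
  have := hG.isNilpotent
  induction k with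
  | zero => simp
  | succ k ih =>
    have h1 : lcs G (j + k) ≠ ⊥ := by simpa using h
    refine le_trans ?_ (ih (Or.inr (lcs_ne_bot_of_le (Nat.sub_le _ _) h1)))
    rw [pow_succ, mul_assoc]
    exact Nat.mul_le_mul_left _ (mul_card_le_of_lt (hG.to_subgroup _) (lcs_succ_lt h1))

theorem not_isCyclic_quotient_lcs_one (hG : IsPGroup p G) (h : lcs G 1 ≠ ⊥) :
    ¬ IsCyclic (G ⧸ lcs G 1) := fun hc => by
  have := H3.isCyclic_of_isCyclic_quotient_commutator hG hc
  exact h (isMulCommutative_iff_lcs_one.1 inferInstance)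

theorem sq_le_index_lcs_one (hG : IsPGroup p G) (h : lcs G 1 ≠ ⊥) : p ^ 2 ≤ (lcs G 1).index := by
  obtain ⟨k, hk⟩ := hG.index (lcs G 1)
  rw [hk]
  refine Nat.pow_le_pow_right hp.out.pos ?_
  by_contra hlt
  apply not_isCyclic_quotient_lcs_one hG h
  have : k = 0 ∨ k = 1 := by omega
  rcases this with rfl | rfl
  · have : Subsingleton (G ⧸ lcs G 1) := (Nat.card_eq_one_iff_unique.1 hk).1
    infer_instance
  · exact isCyclic_of_prime_card (p := p) (by rw [← index_eq_card, hk, pow_one])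

theorem pow_le_card_of_lcs_ne_bot (hG : IsPGroup p G) {i : ℕ} (hi : 1 ≤ i) (h : lcs G i ≠ ⊥) :
    p ^ (i + 2) ≤ Nat.card G := by
  obtain ⟨k, rfl⟩ := Nat.exists_eq_add_of_le hi
  have h1 := pow_mul_card_lcs_le hG 1 (k + 1) (Or.inr (by simpa [add_comm] using h))
  have h2 := sq_le_index_lcs_one hG (lcs_ne_bot_of_le hi h)
  have h3 : p ^ (k + 1) ≤ Nat.card (lcs G 1) :=
    le_trans (Nat.le_mul_of_pos_right _ Nat.card_pos) h1
  rw [← (lcs G 1).index_mul_card]
  calc p ^ (1 + k + 2) = p ^ 2 * p ^ (k + 1) := by ring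
    _ ≤ _ := Nat.mul_le_mul h2 h3

theorem lcs_le_of_index_le (hG : IsPGroup p G) {i : ℕ} (hi : 1 ≤ i) (M : Subgroup G) [M.Normal]
    (h : M.index ≤ p ^ (i + 1)) : lcs G i ≤ M := by
  rw [H7.le_iff_map_mk'_eq_bot, map_lcs_of_surjective (QuotientGroup.mk'_surjective M)]
  by_contra hne
  have := pow_le_card_of_lcs_ne_bot (hG.to_quotient M) hi hne
  have h2 : p ^ (i + 1) < p ^ (i + 2) := Nat.pow_lt_pow_right hp.out.one_lt (by omega)
  rw [index_eq_card] at h
  omega

/-- A finite `p`-group is not the union of at most `p` proper subgroups. -/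
theorem exists_forall_not_mem (hG : IsPGroup p G) (s : Finset (Subgroup G)) (hs : ∀ H ∈ s, H ≠ ⊤)
    (hc : s.card ≤ p) : ∃ x : G, ∀ H ∈ s, x ∉ H := by
  classical
  rcases s.eq_empty_or_nonempty with rfl | ⟨H₀, hH₀⟩
  · exact ⟨1, by simp⟩
  by_contra! hcov
  have := Fintype.ofFinite G
  have hcard : ∀ B : Subgroup G, Nat.card B = (Finset.univ.filter (· ∈ B)).card := fun B => by
    rw [Nat.card_eq_fintype_card, Fintype.card_subtype]
  have h1 : Finset.univ.erase (1 : G) ⊆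
      s.biUnion fun H => (Finset.univ.filter (· ∈ H)).erase 1 := by
    intro x hx
    obtain ⟨H, hH, hxH⟩ := hcov x
    rw [Finset.mem_erase] at hx
    exact Finset.mem_biUnion.2 ⟨H, hH, Finset.mem_erase.2 ⟨hx.1, by simpa using hxH⟩⟩
  have hG' : ∀ H ∈ s, p * Nat.card H ≤ Nat.card G := fun H hH => by
    rw [← card_top (G := G)]
    exact mul_card_le_of_lt (hG.to_subgroup _) (lt_top_iff_ne_top.2 (hs H hH))
  obtain ⟨k, hk⟩ := IsPGroup.iff_card.1 hG
  have hk0 : k ≠ 0 := by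
    rintro rfl
    have h2 := hG' H₀ hH₀
    have h3 : 0 < Nat.card H₀ := Nat.card_pos
    have h4 := hp.out.two_le
    rw [hk] at h2
    nlinarith
  obtain ⟨k, rfl⟩ := Nat.exists_eq_succ_of_ne_zero hk0
  have h2 := (Finset.card_le_card h1).trans (Finset.card_biUnion_le_card_mul s _ (p ^ k - 1)
    (fun H hH => by
      rw [Finset.card_erase_of_mem (by simp), ← hcard]
      have := hG' H hH
      rw [hk, pow_succ'] at this
      exact Nat.sub_le_sub_right (Nat.le_of_mul_le_mul_left this hp.out.pos) 1))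
  rw [Finset.card_erase_of_mem (Finset.mem_univ _), Finset.card_univ, ← Nat.card_eq_fintype_card,
    hk] at h2
  have h3 := h2.trans (Nat.mul_le_mul_right _ hc)
  have h4 : 1 ≤ p ^ k := Nat.one_le_pow _ _ hp.out.pos
  have h5 := hp.out.two_le
  rw [Nat.mul_sub, mul_one, Nat.succ_eq_add_one, pow_succ'] at h3
  have h6 : p ≤ p * p ^ k := Nat.le_mul_of_pos_right _ h4
  omega

theorem exists_not_mem_two (A B : Subgroup G) (hG : IsPGroup p G) (hA : A ≠ ⊤) (hB : B ≠ ⊤) :
    ∃ x : G, x ∉ A ∧ x ∉ B := by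
  classical
  obtain ⟨x, hx⟩ := exists_forall_not_mem hG {A, B} (by simp [hA, hB])
    (Finset.card_le_two.trans hp.out.two_le)
  exact ⟨x, hx A (by simp), hx B (by simp)⟩

theorem exists_not_mem_three (A B C : Subgroup G) (hG : IsPGroup p G) (hp2 : p ≠ 2) (hA : A ≠ ⊤)
    (hB : B ≠ ⊤) (hC : C ≠ ⊤) : ∃ x : G, x ∉ A ∧ x ∉ B ∧ x ∉ C := by
  classical
  obtain ⟨x, hx⟩ := exists_forall_not_mem hG {A, B, C} (by simp [hA, hB, hC])
    (Finset.card_le_three.trans (by have := hp.out.two_le; omega))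
  exact ⟨x, hx A (by simp), hx B (by simp), hx C (by simp)⟩

theorem sup_zpowers_eq_of_card {M K : Subgroup G} (hK : IsPGroup p K) (hMK : M ≤ K)
    (hc : Nat.card K ≤ p * Nat.card M) {u : G} (hu : u ∈ K) (huM : u ∉ M) : M ⊔ zpowers u = K := by
  have h1 : M ⊔ zpowers u ≤ K := sup_le hMK (zpowers_le.2 hu)
  refine eq_of_le_of_card_ge h1 (hc.trans (mul_card_le_of_lt (hK.to_le h1) ?_))
  exact lt_of_le_of_ne le_sup_left fun e => huM (e ▸ mem_sup_right (mem_zpowers u))

end pgroup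

/-- the elements commuting with `x` modulo the normal subgroup `M` -/
def cmod (M : Subgroup G) [M.Normal] (x : G) : Subgroup G :=
  (centralizer ({QuotientGroup.mk' M x} : Set (G ⧸ M))).comap (QuotientGroup.mk' M)

theorem mem_cmod {M : Subgroup G} [M.Normal] {x g : G} : g ∈ cmod M x ↔ ⁅g, x⁆ ∈ M := by
  rw [cmod, mem_comap, mem_centralizer_singleton_iff, H7.commutatorElement_mem_iff_commute]
  rfl

theorem mem_cmod' {M : Subgroup G} [M.Normal] {x g : G} : g ∈ cmod M x ↔ ⁅x, g⁆ ∈ M := by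
  rw [mem_cmod, ← inv_mem_iff, commutatorElement_inv]

/-- The two-step centralizer `C_G(γ_{i+1} / γ_{i+3})`. -/
def tsc (G : Type*) [Group G] (i : ℕ) : Subgroup G := ⨅ u ∈ lcs G i, cmod (lcs G (i + 2)) u

theorem mem_tsc {i : ℕ} {x : G} : x ∈ tsc G i ↔ ∀ u ∈ lcs G i, ⁅u, x⁆ ∈ lcs G (i + 2) := by
  simp only [tsc, mem_iInf, mem_cmod']

theorem le_tsc_iff {i : ℕ} {H : Subgroup G} : H ≤ tsc G i ↔ ⁅lcs G i, H⁆ ≤ lcs G (i + 2) := by
  rw [commutator_le]
  exact ⟨fun h u hu x hx => mem_tsc.1 (h hx) u hu, fun h x hx => mem_tsc.2 fun u hu => h u hu x hx⟩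

theorem lcs_one_le_tsc (i : ℕ) : lcs G 1 ≤ tsc G i := le_tsc_iff.2 (H7.commutator_top_lcs_le i 1)

instance tsc_normal (i : ℕ) : (tsc G i).Normal :=
  ⟨fun x hx g => by
    have : g * x * g⁻¹ = ⁅g, x⁆ * x := by rw [commutatorElement_def]; group
    rw [this]
    exact mul_mem (lcs_one_le_tsc i (commutator_mem_lcs_one g x)) hx⟩

theorem tsc_ne_top [Group.IsNilpotent G] {i : ℕ} (h : lcs G (i + 1) ≠ ⊥) : tsc G i ≠ ⊤ := fun e =>
  (lcs_succ_lt h).not_ge (le_tsc_iff.1 e.ge)

theorem map_mem_tsc_iff {H : Type*} [Group H] {f : G →* H} (hf : Function.Surjective f) {i : ℕ}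
    (hk : f.ker ≤ lcs G (i + 2)) {x : G} : f x ∈ tsc H i ↔ x ∈ tsc G i := by
  rw [mem_tsc, mem_tsc]
  constructor
  · intro h u hu
    rw [← map_mem_lcs_iff hf hk, map_commutatorElement]
    exact h _ (map_mem_lcs f hu)
  · intro h u hu
    rw [← map_lcs_of_surjective hf] at hu
    obtain ⟨v, hv, rfl⟩ := hu
    rw [← map_commutatorElement]
    exact map_mem_lcs f (h v hv)

/-- `G` has order `p ^ n` (`n ≥ 3`) and nilpotency class (at least, hence exactly) `n - 1`. -/
structure MaxClass (p n : ℕ) (G : Type*) [Group G] : Prop where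
  three_le : 3 ≤ n
  card_eq : Nat.card G = p ^ n
  lcs_ne : lcs G (n - 2) ≠ ⊥

theorem maxClass_of_nilpotencyClass [Finite G] {p n : ℕ} [Fact p.Prime] (hn : 3 ≤ n)
    (hc : Nat.card G = p ^ n) (h : Group.nilpotencyClass G = n - 1) : MaxClass p n G := by
  have := (IsPGroup.of_card hc).isNilpotent
  refine ⟨hn, hc, fun e => ?_⟩
  rw [Subgroup.lowerCentralSeries_eq_bot_iff_nilpotencyClass_le, h] at e
  omega

namespace MaxClass

variable [Finite G] {p n : ℕ} [hp : Fact p.Prime]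

theorem isPGroup (h : MaxClass p n G) : IsPGroup p G := IsPGroup.of_card h.card_eq

theorem lcs_ne_bot (h : MaxClass p n G) {i : ℕ} (hi : i + 2 ≤ n) : lcs G i ≠ ⊥ :=
  lcs_ne_bot_of_le (by omega) h.lcs_ne

theorem lcs_eq_bot (h : MaxClass p n G) {i : ℕ} (hi : n ≤ i + 1) : lcs G i = ⊥ := by
  by_contra hne
  have h3 := h.three_le
  have := pow_le_card_of_lcs_ne_bot h.isPGroup (by omega) hne
  rw [h.card_eq, Nat.pow_le_pow_iff_right hp.out.one_lt] at this
  omega

theorem lcs_ne_bot_iff (h : MaxClass p n G) {i : ℕ} : lcs G i ≠ ⊥ ↔ i + 2 ≤ n :=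
  ⟨fun hi => by_contra fun hn => hi (h.lcs_eq_bot (by omega)), h.lcs_ne_bot⟩

theorem nilpotencyClass_eq (h : MaxClass p n G) : Group.nilpotencyClass G = n - 1 := by
  have := h.isPGroup.isNilpotent
  have h3 := h.three_le
  have h1 := Subgroup.lowerCentralSeries_eq_bot_iff_nilpotencyClass_le.1 (h.lcs_eq_bot (i := n - 1) (by omega))
  have h2 := mt Subgroup.lowerCentralSeries_eq_bot_iff_nilpotencyClass_le.2 h.lcs_ne
  omega

theorem card_lcs (h : MaxClass p n G) {i : ℕ} (hi : 1 ≤ i) :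
    Nat.card (lcs G i) = p ^ (n - 1 - i) := by
  have h3 := h.three_le
  by_cases hin : n ≤ i + 1
  · rw [h.lcs_eq_bot hin, card_bot, show n - 1 - i = 0 by omega, pow_zero]
  apply le_antisymm
  · have h1 := pow_mul_card_lcs_le h.isPGroup 1 (i - 1) (Or.inr (h.lcs_ne_bot (by omega)))
    have h2 := sq_le_index_lcs_one h.isPGroup (h.lcs_ne_bot (by omega))
    have h4 := Nat.mul_le_mul h2 h1
    rw [index_mul_card, h.card_eq, show 1 + (i - 1) = i by omega, ← mul_assoc, ← pow_add,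
      show n = (2 + (i - 1)) + (n - 1 - i) by omega, pow_add p (2 + (i - 1))] at h4
    exact Nat.le_of_mul_le_mul_left h4 (pow_pos hp.out.pos _)
  · have h1 := pow_mul_card_lcs_le h.isPGroup i (n - 1 - i) (Or.inr (h.lcs_ne_bot (by omega)))
    exact le_trans (Nat.le_mul_of_pos_right _ Nat.card_pos) h1

theorem index_lcs (h : MaxClass p n G) {i : ℕ} (hi : 1 ≤ i) (hin : i + 1 ≤ n) :
    (lcs G i).index = p ^ (i + 1) := by
  have := (lcs G i).index_mul_card
  rw [h.card_lcs hi, h.card_eq, show n = (i + 1) + (n - 1 - i) by omega, pow_add,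
    show i + 1 + (n - 1 - i) - 1 - i = n - 1 - i by omega] at this
  exact Nat.eq_of_mul_eq_mul_right (pow_pos hp.out.pos _) this

theorem index_lcs_one (h : MaxClass p n G) : (lcs G 1).index = p ^ 2 :=
  h.index_lcs le_rfl (by have := h.three_le; omega)

theorem card_lcs_le_mul (h : MaxClass p n G) {i : ℕ} (hi : 1 ≤ i) :
    Nat.card (lcs G i) ≤ p * Nat.card (lcs G (i + 1)) := by
  rw [h.card_lcs hi, h.card_lcs (by omega), ← pow_succ']
  exact Nat.pow_le_pow_right hp.out.pos (by omega)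

theorem lcs_le_of_card_le (h : MaxClass p n G) {i : ℕ} (hi : 1 ≤ i) (M : Subgroup G) [M.Normal]
    (hc : Nat.card (lcs G i) ≤ Nat.card M) : lcs G i ≤ M := by
  by_cases hin : n ≤ i + 1
  · rw [h.lcs_eq_bot hin]; exact bot_le
  refine lcs_le_of_index_le h.isPGroup hi M ?_
  rw [← h.index_lcs hi (by omega)]
  have h1 := M.index_mul_card
  rw [← (lcs G i).index_mul_card] at h1
  have h2 := Nat.mul_le_mul_left M.index hc
  rw [h1] at h2
  exact Nat.le_of_mul_le_mul_right h2 Nat.card_pos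

/-- A normal subgroup either contains `γ_{i+1}` or is contained in `γ_{i+2}`. -/
theorem lcs_le_or_le (h : MaxClass p n G) {i : ℕ} (hi : 1 ≤ i) (M : Subgroup G) [M.Normal] :
    lcs G i ≤ M ∨ M ≤ lcs G (i + 1) := by
  by_cases hc : Nat.card (lcs G i) ≤ Nat.card M
  · exact Or.inl (h.lcs_le_of_card_le hi M hc)
  right
  obtain ⟨m, hm⟩ := IsPGroup.iff_card.1 (h.isPGroup.to_subgroup M)
  rw [h.card_lcs hi, hm, Nat.pow_le_pow_iff_right hp.out.one_lt] at hc
  have h1 : Nat.card (lcs G (n - 1 - m)) = Nat.card M := by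
    rw [h.card_lcs (by omega), hm]; congr 1; omega
  have h2 := h.lcs_le_of_card_le (i := n - 1 - m) (by omega) M h1.le
  rw [← eq_of_le_of_card_ge h2 h1.ge]
  exact lcs_anti (by omega)

theorem eq_lcs_of_le_of_not_le (h : MaxClass p n G) {i : ℕ} (hi : 1 ≤ i) (M : Subgroup G)
    [M.Normal] (h1 : M ≤ lcs G i) (h2 : ¬ M ≤ lcs G (i + 1)) : M = lcs G i :=
  le_antisymm h1 ((h.lcs_le_or_le hi M).resolve_right h2)

theorem sup_zpowers_eq (h : MaxClass p n G) {i : ℕ} (hi : 1 ≤ i) {u : G} (hu : u ∈ lcs G i)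
    (hu' : u ∉ lcs G (i + 1)) : lcs G (i + 1) ⊔ zpowers u = lcs G i :=
  sup_zpowers_eq_of_card (h.isPGroup.to_subgroup _) (lcs_anti (Nat.le_succ i))
    (h.card_lcs_le_mul hi) hu hu'

theorem exists_mem_not_mem (h : MaxClass p n G) {i : ℕ} (hi : i + 2 ≤ n) :
    ∃ u ∈ lcs G i, u ∉ lcs G (i + 1) := by
  have := h.isPGroup.isNilpotent
  exact SetLike.exists_of_lt (lcs_succ_lt (h.lcs_ne_bot hi))

theorem mem_tsc_iff (h : MaxClass p n G) {i : ℕ} (hi : 1 ≤ i) {u : G} (hu : u ∈ lcs G i)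
    (hu' : u ∉ lcs G (i + 1)) {x : G} : x ∈ tsc G i ↔ ⁅u, x⁆ ∈ lcs G (i + 2) := by
  refine ⟨fun hx => mem_tsc.1 hx u hu, fun hx => mem_tsc.2 fun v hv => ?_⟩
  have : lcs G (i + 1) ⊔ zpowers u ≤ cmod (lcs G (i + 2)) x :=
    sup_le (fun w hw => mem_cmod.2 (commutator_mem_lcs_succ hw x)) (zpowers_le.2 (mem_cmod.2 hx))
  exact mem_cmod.1 (this (h.sup_zpowers_eq hi hu hu' ▸ hv))

theorem index_tsc (h : MaxClass p n G) {i : ℕ} (hi : 1 ≤ i) (hin : i + 3 ≤ n) :
    (tsc G i).index = p := by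
  have := h.isPGroup.isNilpotent
  obtain ⟨u, hu, hu'⟩ := h.exists_mem_not_mem (i := i) (by omega)
  apply le_antisymm
  · have e : tsc G i = cmod (lcs G (i + 2)) u := by
      ext x; rw [h.mem_tsc_iff hi hu hu', mem_cmod']
    rw [e, cmod, index_comap_of_surjective _ (QuotientGroup.mk'_surjective _), ← relIndex_top_right]
    refine (relIndex_centralizer_le_card (N := (lcs G (i + 1)).map (QuotientGroup.mk' _)) ?_).trans ?_
    · intro g _
      obtain ⟨g, rfl⟩ := QuotientGroup.mk'_surjective _ g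
      rw [← map_commutatorElement]
      exact mem_map_of_mem _ (commutator_mem_lcs_succ' hu g)
    · have h1 := H3.card_map_mk'_mul (lcs G (i + 2)) (lcs_anti (Nat.le_succ (i + 1)))
      have h2 := h.card_lcs_le_mul (i := i + 1) (by omega)
      rw [← h1] at h2
      exact Nat.le_of_mul_le_mul_right h2 Nat.card_pos
  · rw [← relIndex_top_right]
    exact prime_le_relIndex_of_lt (h.isPGroup.to_subgroup _)
      (lt_top_iff_ne_top.2 (tsc_ne_top (h.lcs_ne_bot (by omega))))

theorem isCoatom_tsc (h : MaxClass p n G) {i : ℕ} (hi : 1 ≤ i) (hin : i + 3 ≤ n) :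
    IsCoatom (tsc G i) := H3.isCoatom_of_index_prime (by rw [h.index_tsc hi hin]; exact hp.out)

theorem pow_mem_lcs_one (h : MaxClass p n G) (x : G) : x ^ p ∈ lcs G 1 := by
  have hnc := not_isCyclic_quotient_lcs_one h.isPGroup (h.lcs_ne_bot (i := 1) h.three_le)
  have hq : Nat.card (G ⧸ lcs G 1) = p ^ 2 := h.index_lcs_one
  rw [← QuotientGroup.eq_one_iff, QuotientGroup.mk_pow]
  set y : G ⧸ lcs G 1 := QuotientGroup.mk x
  have h1 : orderOf y ∣ p ^ 2 := hq ▸ orderOf_dvd_natCard y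
  obtain ⟨j, hj, hje⟩ := (Nat.dvd_prime_pow hp.out).1 h1
  rcases Nat.lt_or_ge j 2 with h | h
  · rw [← orderOf_dvd_iff_pow_eq_one, hje]
    exact (pow_dvd_pow p (Nat.lt_succ_iff.1 h)).trans (by rw [pow_one])
  · exact absurd (isCyclic_of_orderOf_eq_card y (by rw [hje, hq, le_antisymm hj h])) hnc

theorem frattini_eq (h : MaxClass p n G) : frattini G = lcs G 1 :=
  le_antisymm (H3.frattini_le_of_forall hp.out commutator_mem_lcs_one h.pow_mem_lcs_one)
    (H3.commutator_le_frattini h.isPGroup)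

theorem sup_lcs_one_ne_top (h : MaxClass p n G) {D : Subgroup G} (hD : D ≠ ⊤) :
    D ⊔ lcs G 1 ≠ ⊤ := fun e => hD (frattini_nongenerating (by rw [h.frattini_eq, e]))

theorem card_le_mul_of_ne_top (h : MaxClass p n G) {M : Subgroup G} (hM : M ≠ ⊤) :
    Nat.card M ≤ p * Nat.card (lcs G 1) := by
  have h1 := mul_card_le_of_lt (h.isPGroup.to_subgroup ⊤) (lt_top_iff_ne_top.2 hM)
  rw [card_top, ← (lcs G 1).index_mul_card, h.index_lcs_one, pow_two, mul_assoc] at h1
  exact Nat.le_of_mul_le_mul_left h1 hp.out.pos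

theorem sup_zpowers_eq_of_ne_top (h : MaxClass p n G) {M : Subgroup G} (hM : M ≠ ⊤)
    (h1 : lcs G 1 ≤ M) {y : G} (hy : y ∈ M) (hy' : y ∉ lcs G 1) : lcs G 1 ⊔ zpowers y = M :=
  sup_zpowers_eq_of_card (h.isPGroup.to_subgroup _) h1 (h.card_le_mul_of_ne_top hM) hy hy'

theorem center_le_lcs_one (h : MaxClass p n G) : center G ≤ lcs G 1 := by
  rcases h.lcs_le_or_le le_rfl (center G) with h1 | h1
  swap
  · exact h1.trans (lcs_anti (by norm_num))
  intro z hz
  by_contra hz'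
  have hne : center G ≠ ⊤ := fun e => h.lcs_ne_bot (i := 1) h.three_le
    (isMulCommutative_iff_lcs_one.1 ⟨⟨fun a b => mem_center_iff.1 (e ▸ mem_top b) a⟩⟩)
  have h2 : Nat.card (G ⧸ center G) = p := by
    have h3 := mul_card_le_of_lt (h.isPGroup.to_subgroup _) (lt_of_le_of_ne h1 fun e => hz' (e ▸ hz))
    have h4 := (center G).index_mul_card
    rw [le_antisymm (h.card_le_mul_of_ne_top hne) h3, ← (lcs G 1).index_mul_card, h.index_lcs_one,
      pow_two, ← mul_assoc] at h4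
    exact Nat.eq_of_mul_eq_mul_right hp.out.pos (Nat.eq_of_mul_eq_mul_right Nat.card_pos h4)
  have := isCyclic_of_prime_card h2
  exact h.lcs_ne_bot (i := 1) h.three_le (isMulCommutative_iff_lcs_one.1
    (MonoidHom.isMulCommutative_of_isCyclic_of_ker_le_center (QuotientGroup.mk' (center G))
      (by rw [QuotientGroup.ker_mk'])))

theorem center_eq (h : MaxClass p n G) : center G = lcs G (n - 2) := by
  have h3 := h.three_le
  refine le_antisymm ?_ (lcs_le_center (h.lcs_eq_bot (by omega)))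
  by_cases hn : n = 3
  · subst hn; exact h.center_le_lcs_one
  rcases h.lcs_le_or_le (i := n - 3) (by omega) (center G) with h1 | h1
  · exfalso
    apply h.lcs_ne
    rw [show n - 2 = n - 3 + 1 by omega, lcs_succ, commutator_eq_bot_iff_le_centralizer, coe_top,
      centralizer_univ]
    exact h1
  · rwa [show n - 3 + 1 = n - 2 by omega] at h1

theorem card_center (h : MaxClass p n G) : Nat.card (center G) = p := by
  have h3 := h.three_le
  rw [h.center_eq, h.card_lcs (by omega), show n - 1 - (n - 2) = 1 by omega, pow_one]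

theorem quotient (h : MaxClass p n G) {m : ℕ} (hm : 3 ≤ m) (hmn : m ≤ n) :
    MaxClass p m (G ⧸ lcs G (m - 1)) := by
  have := h.isPGroup.isNilpotent
  refine ⟨hm, ?_, ?_⟩
  · rw [← index_eq_card, h.index_lcs (by omega) (by omega), Nat.sub_add_cancel (by omega)]
  · rw [← map_lcs_of_surjective (QuotientGroup.mk'_surjective _), Ne, ← H7.le_iff_map_mk'_eq_bot,
      show m - 1 = m - 2 + 1 by omega]
    exact (lcs_succ_lt (h.lcs_ne_bot (by omega))).not_ge

theorem of_mulEquiv (h : MaxClass p n G) {H : Type*} [Group H] (e : G ≃* H) : MaxClass p n H := by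
  refine ⟨h.three_le, by rw [← h.card_eq, Nat.card_congr e.toEquiv], ?_⟩
  rw [← map_lcs_of_surjective (f := (e : G →* H)) e.surjective, Ne,
    map_eq_bot_iff_of_injective _ e.injective]
  exact h.lcs_ne

end MaxClass

end Cfsg.Agent.H2
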