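import Cfsg.Agent.FT.BG01
import Cfsg.Agent.FT.B.helper1_Core
import Cfsg.Agent.H2.Signalizer2
import Cfsg.Agent.H8.PComplement
import Cfsg.Prelude.Def_CaseTheorems
import Cfsg.Prelude.Def_Involutions

/-!
Groups in which the centralizers of involutions are solvable: the functor `O(C(t))`, extremal
involutions, and a criterion for strongly embedded subgroups / characteristic `2` type.
-/

set_option autoImplicit false
set_option linter.unusedSectionVars false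

namespace Cfsg.Agent.H2.ZC

open Subgroup Cfsg Cfsg.Agent Cfsg.Agent.FT
open scoped commutatorElement

universe u

variable {G : Type u} [Group G] [Finite G]

/-- `O(C_G(t))`. -/
def oc (t : G) : Subgroup G := pPrimeCoreOf 2 𝐂[t]

/-- `W_B = ⟨O(C_G(b)) | b ∈ B^#⟩`. -/
def wc (B : Subgroup G) : Subgroup G := sigGen B oc

variable (G) in
/-- Centralizers of involutions are solvable. -/
def CSolv : Prop := ∀ t : G, t ≠ 1 → t ^ 2 = 1 → Group.IsSolvable 𝐂[t]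

theorem oc_le (t : G) : oc t ≤ 𝐂[t] := pPrimeCoreOf_le 2 _

theorem oc_cop (t : G) : 𝐨(oc t).Coprime 2 := coprime_card_pPrimeCoreOf 2 _

theorem le_norm_oc (t : G) : 𝐂[t] ≤ 𝐍(oc t) := le_normalizer_pPrimeCoreOf 2 _

theorem oc_conj (t g : G) : oc (g * t * g⁻¹) = oc t ^ᵍ g := by
  unfold oc
  rw [cent1_conj, pPrimeCoreOf_conj g _ Nat.prime_two]

theorem le_wc {B : Subgroup G} {b : G} (hb : b ∈ B) (h1 : b ≠ 1) : oc b ≤ wc B :=
  le_sigGen oc hb h1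

theorem wc_le {B K : Subgroup G} (h : ∀ b ∈ B, b ≠ 1 → oc b ≤ K) : wc B ≤ K := sigGen_le h

theorem wc_mono {B E : Subgroup G} (h : B ≤ E) : wc B ≤ wc E :=
  wc_le fun _ hb h1 => le_wc (h hb) h1

theorem wc_conj_le (B : Subgroup G) (g : G) : wc (B ^ᵍ g) ≤ wc B ^ᵍ g := by
  refine wc_le fun b hb h1 => ?_
  obtain ⟨c, hc, rfl⟩ := mem_conj'.1 hb
  rw [oc_conj]
  exact conj_mono (le_wc hc (by rintro rfl; simp at h1)) g

theorem wc_conj (B : Subgroup G) (g : G) : wc (B ^ᵍ g) = wc B ^ᵍ g := by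
  refine le_antisymm (wc_conj_le B g) ?_
  have := wc_conj_le (B ^ᵍ g) g⁻¹
  rw [conj_conj_inv] at this
  exact conj_le_iff.2 this

theorem isPGroup_zpowers {a : G} (ha : a ^ 2 = 1) : IsPGroup 2 (zpowers a) :=
  elemAb_isPGroup (elemAb_zpowers ha)

theorem oc_inf_le {X : Subgroup G} (hs : Group.IsSolvable X) {a : G} (ha : a ∈ X)
    (ha2 : a ^ 2 = 1) : oc a ⊓ X ≤ pPrimeCoreOf 2 X := by
  refine le_trans ?_ (pPrimeCore_cent_pgroup Nat.prime_two hs (zpowers_le.2 ha)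
    (isPGroup_zpowers ha2))
  rw [cent_zpowers]
  exact le_trans (le_inf inf_le_left (le_inf inf_le_right (inf_le_left.trans (oc_le a))))
    (pPrimeCoreOf_inf_le 2 inf_le_right)

theorem CSolv.bal (hC : CSolv G) {a b : G} (ha2 : a ^ 2 = 1) (hb : b ≠ 1) (hb2 : b ^ 2 = 1)
    (hab : a ∈ 𝐂[b]) : oc a ⊓ 𝐂[b] ≤ oc b := oc_inf_le (hC b hb hb2) hab ha2

theorem CSolv.sig (hC : CSolv G) {A : Subgroup G} (hA : IsElementaryAbelian 2 A) : Sig 2 A oc where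
  cent a _ _ := oc_le a
  inv a ha _ := ((isMulComm_iff_le_cent.1 hA.1).trans (cent_le_cent1 ha)).trans (le_norm_oc a)
  cop a _ _ := oc_cop a
  solv a ha h1 := H1.isSolvable_of_le (oc_le a) (hC a h1 (hA.2 a ha))
  bal a ha _ b hb h1 := hC.bal (hA.2 a ha) h1 (hA.2 b hb)
    (cent_le_cent1 hb (isMulComm_iff_le_cent.1 hA.1 ha))

theorem CSolv.e8 (hC : CSolv G) {A : Subgroup G} (hA : IsElem 2 3 A) :
    𝐨(wc A).Coprime 2 ∧ ∀ B ≤ A, ¬ IsCyclic B → wc A ≤ wc B := by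
  obtain ⟨M, hM, h⟩ := sig_complete ⟨hA.1, hA.2⟩ (hC.sig hA.1) fun a _ _ => oc_cop a
  refine ⟨hM.cop.coprime_dvd_left (FT.card_dvd_of_le (wc_le h)), fun B hB hnc => ?_⟩
  refine (wc_le h).trans (H1.le_of_forall_centralizer_le (isMulComm_of_le hB hA.comm) hnc
    (hB.trans hM.inv) (H1.coprime_card_of_isPGroup (hA.pgrp.to_le hB) hM.cop).symm
    fun b hb h1 => (hM.le b (hB hb) h1).trans (le_wc hb h1))

theorem isElem_sup_zpowers {n : ℕ} {B : Subgroup G} (hB : IsElem 2 n B) {e : G} (he : e ∉ B)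
    (he2 : e ^ 2 = 1) (hc : e ∈ 𝐂(B)) : IsElem 2 (n + 1) (B ⊔ zpowers e) := by
  have h1 : e ≠ 1 := by rintro rfl; exact he (one_mem B)
  have h2 : 𝐨(zpowers e) = 2 := by rw [Nat.card_zpowers]; exact orderOf_eq_prime he2 h1
  refine hB.sup ((isElem_one_iff Nat.prime_two).2 h2) (zpowers_le.2 hc) ?_
  rw [inf_comm]
  exact (inf_eq_bot_or_le_of_card_prime (h2 ▸ Nat.prime_two) B).resolve_right
    fun h => he (h (mem_zpowers e))

theorem CSolv.wc_eq (hC : CSolv G) {B E : Subgroup G} (hE : IsElementaryAbelian 2 E) (hB : B ≤ E)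
    (hB2 : IsElem 2 2 B) : wc E = wc B := by
  refine le_antisymm (wc_le fun e he h1 => ?_) (wc_mono hB)
  by_cases heB : e ∈ B
  · exact le_wc heB h1
  have hA := isElem_sup_zpowers hB2 heB (hE.2 e he)
    (cent_anti hB (isMulComm_iff_le_cent.1 hE.1 he))
  exact (le_wc (mem_sup_right (mem_zpowers e)) h1).trans
    ((hC.e8 hA).2 B le_sup_left (hB2.not_isCyclic Nat.prime_two le_rfl))

/-- Commuting four-groups have the same `W`. -/
theorem CSolv.wc_eq_of_cent (hC : CSolv G) {B V : Subgroup G} (hB : IsElem 2 2 B)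
    (hV : IsElem 2 2 V) (h : B ≤ 𝐂(V)) : wc B = wc V := by
  have hE := elemAb_sup hV.1 hB.1 h
  rw [← hC.wc_eq hE le_sup_right hB, hC.wc_eq hE le_sup_left hV]

theorem CSolv.oc_le_wc (hC : CSolv G) {V : Subgroup G} (hV : IsElem 2 2 V) {s : G} (h1 : s ≠ 1)
    (h2 : s ^ 2 = 1) (h : s ∈ 𝐂(V)) : oc s ≤ wc V := by
  rw [← hC.wc_eq (elemAb_sup hV.1 (elemAb_zpowers h2) (zpowers_le.2 h)) le_sup_left hV]
  exact le_wc (mem_sup_right (mem_zpowers s)) h1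

/-- `s` is extremal in the Sylow `2`-subgroup `S`. -/
def Ext (S : Subgroup G) (s : G) : Prop := s ∈ S ∧ IsSyl 2 (S ⊓ 𝐂[s]) 𝐂[s]

theorem exists_ext {S : Subgroup G} (hS : IsSyl 2 S ⊤) {s : G} (hs : s ^ 2 = 1) :
    ∃ k : G, Ext S (k * s * k⁻¹) := by
  obtain ⟨T, hT, hsT⟩ := exists_isSyl_ge Nat.prime_two (isPGroup_zpowers hs)
    (zpowers_le.2 (self_mem_cent1 s))
  obtain ⟨k, -, hk⟩ := hS.exists_conj_le Nat.prime_two hT.pgrp le_top
  refine ⟨k, hk (conj_mem_conj (hsT (mem_zpowers s)) k), ?_⟩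
  have h1 := hT.conj k
  rw [← cent1_conj] at h1
  rwa [h1.eq_of_le Nat.prime_two (le_inf hk h1.le) inf_le_right (hS.pgrp.to_le inf_le_left)]

theorem Ext.exists_conj {S : Subgroup G} (hS : IsSyl 2 S ⊤) {s k : G}
    (h : Ext S (k * s * k⁻¹)) : ∃ x : G, x * s * x⁻¹ = k * s * k⁻¹ ∧ (S ⊓ 𝐂[s]) ^ᵍ x ≤ S := by
  obtain ⟨c, hc, h1⟩ := h.2.exists_conj_le Nat.prime_two (Q := (S ⊓ 𝐂[s]) ^ᵍ k)
    ((hS.pgrp.to_le inf_le_left).map _) (by rw [cent1_conj]; exact conj_mono inf_le_right k)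
  refine ⟨c * k, ?_, by rw [← conj_conj]; exact h1.trans inf_le_left⟩
  rw [← mem_cent1_iff_conj.1 hc]; group

theorem cent_le_of_ext (hC : CSolv G) {S V M : Subgroup G} (hV : V ≤ 𝐙(S))
    (hM : ∀ x : G, V ^ᵍ x ≤ S → x ∈ M) {s : G} (h1 : s ≠ 1) (h2 : s ^ 2 = 1) (hs : Ext S s)
    (hO : oc s ≤ M) : 𝐂[s] ≤ M := by
  have hn := pPrimePCoreOf_normal 2 𝐂[s]
  have hP := hs.2.inf_normal Nat.prime_two hn
  have e1 := hP.frattini Nat.prime_two hn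
  have e2 := pPrimePCoreOf_eq_sup Nat.prime_two hP
  have e3 := solvable_p_constrained Nat.prime_two (hC s h1 h2) hP
  obtain ⟨P, hPd⟩ : ∃ P, P = S ⊓ 𝐂[s] ⊓ pPrimePCoreOf 2 𝐂[s] := ⟨_, rfl⟩
  have hVs : V ≤ 𝐂[s] := (hV.trans inf_le_right).trans (cent_le_cent1 hs.1)
  have hVP : V ≤ P := hPd ▸ le_inf (le_inf (hV.trans inf_le_left) hVs) (le_trans (le_inf hVs
    ((hV.trans inf_le_right).trans (cent_anti (inf_le_left.trans inf_le_left)))) e3)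
  have hPS : P ≤ S := hPd ▸ inf_le_left.trans inf_le_left
  rw [← hPd] at e1 e2
  have hN : 𝐍(P) ≤ M := fun n hn => hM n ((conj_le_of_mem_norm hVP hn).trans hPS)
  rw [← e1, ← e2]
  exact sup_le (sup_le hO ((le_norm_self P).trans hN)) (inf_le_right.trans hN)

theorem mem_of_conj_mem (hC : CSolv G) {S V M K : Subgroup G} [K.Normal] (hS : IsSyl 2 S ⊤)
    (hV : V ≤ 𝐙(S)) (hM : ∀ x : G, V ^ᵍ x ≤ S → x ∈ M)
    (hO : ∀ s ∈ K, s ≠ 1 → s ^ 2 = 1 → Ext S s → oc s ≤ M) {s g : G} (hsK : s ∈ K) (h1 : s ≠ 1)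
    (h2 : s ^ 2 = 1) (hs : s ∈ S) (hg : g * s * g⁻¹ ∈ S) : g ∈ M := by
  obtain ⟨k, hk⟩ := exists_ext hS h2
  have key : ∀ {s' k' : G}, s' ∈ S → k' * s' * k'⁻¹ = k * s * k⁻¹ →
      ∃ x ∈ M, x * s' * x⁻¹ = k * s * k⁻¹ := by
    intro s' k' hs' e
    obtain ⟨x, hx, hx'⟩ := Ext.exists_conj hS (e ▸ hk)
    exact ⟨x, hM x ((conj_mono (le_inf (hV.trans inf_le_left)
      ((hV.trans inf_le_right).trans (cent_le_cent1 hs'))) x).trans hx'), hx.trans e⟩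
  obtain ⟨x, hx, e1⟩ := key hs rfl
  obtain ⟨y, hy, e2⟩ := key (k' := k * g⁻¹) hg (by group)
  have h1' : k * s * k⁻¹ ≠ 1 := by simpa using h1
  have h2' : (k * s * k⁻¹) ^ 2 = 1 := by rw [conj_pow, h2]; group
  have hc := cent_le_of_ext hC hV hM h1' h2' hk (hO _ (Normal.conj_mem ‹_› s hsK k) h1' h2' hk)
  have : y * g * x⁻¹ ∈ M := hc (mem_cent1_iff_conj.2 (by
    conv_lhs => rw [← e1]
    rw [← e2]; group))
  exact (mul_mem_cancel_left hy).1 ((mul_mem_cancel_right (inv_mem hx)).1 this)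

theorem exists_stronglyEmbedded {S M H : Subgroup G} [H.Normal] (hS : IsSyl 2 S ⊤) (hSM : S ≤ M)
    (hH : ¬ H ≤ M) (hR : S ⊓ H ≠ ⊥)
    (h : ∀ s ∈ H, s ≠ 1 → s ^ 2 = 1 → s ∈ S → ∀ g : G, g * s * g⁻¹ ∈ S → g ∈ M) :
    ∃ M : Subgroup H, IsStronglyEmbedded M := by
  refine ⟨M.subgroupOf H, fun e => hH (subgroupOf_eq_top.1 e), ?_, fun g hg => ?_⟩
  · rw [← inf_subgroupOf_right, Nat.card_congr (subgroupOfEquivOfLe inf_le_right).toEquiv,
      even_iff_two_dvd]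
    exact (prime_dvd_card_of_isPGroup Nat.prime_two (hS.pgrp.to_le inf_le_left) hR).trans
      (FT.card_dvd_of_le (inf_le_inf_right _ hSM))
  · rw [← Nat.not_even_iff_odd, even_iff_two_dvd]
    intro hd
    obtain ⟨s, hs, hs2⟩ := exists_mem_orderOf_eq_prime Nat.prime_two hd
    have a1 : (s : G) ∈ M := (mem_inf.1 hs).1
    have a2 : (g : G)⁻¹ * s * g ∈ M := mem_subgroupOf.1 (mem_conj.1 (mem_inf.1 hs).2)
    have s2 : (s : G) ^ 2 = 1 := by rw [← hs2, ← orderOf_coe]; exact pow_orderOf_eq_one _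
    have s1 : (s : G) ≠ 1 := fun e => by
      rw [show s = 1 from Subtype.ext e, orderOf_one] at hs2; norm_num at hs2
    have hSM' : IsSyl 2 S M := hS.of_le hSM le_top
    obtain ⟨m, hm, hm'⟩ := hSM'.exists_conj_le Nat.prime_two (isPGroup_zpowers s2) (zpowers_le.2 a1)
    obtain ⟨n, hn, hn'⟩ := hSM'.exists_conj_le Nat.prime_two
      (isPGroup_zpowers (a := (g : G)⁻¹ * s * g) (by
        rw [show (g : G)⁻¹ * s * g = (g : G)⁻¹ * s * (g : G)⁻¹⁻¹ by group, conj_pow, s2]; group))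
      (zpowers_le.2 a2)
    have b1 := hm' (conj_mem_conj (mem_zpowers _) m)
    have b2 := hn' (conj_mem_conj (mem_zpowers _) n)
    have := h _ (Normal.conj_mem ‹_› _ s.2 m) (by simpa using s1) (by rw [conj_pow, s2]; group) b1
      (n * (g : G)⁻¹ * m⁻¹) (by convert b2 using 1; group)
    exact hg (inv_mem_iff.1 ((mul_mem_cancel_left hn).1 ((mul_mem_cancel_right (inv_mem hm)).1 this)))

theorem charTwo (hC : CSolv G) {K : Subgroup G} [K.Normal] (hK : 2 ∣ 𝐨(K))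
    (h : ∀ t ∈ K, t ≠ 1 → t ^ 2 = 1 → oc t = ⊥) : IsCharacteristicTwoType K := by
  refine ⟨even_iff_two_dvd.2 hK, fun T₀ hT₀ hT1 => ?_⟩
  have hf := K.subtype_injective
  obtain ⟨T, hT⟩ : ∃ T, T = T₀.map K.subtype := ⟨_, rfl⟩
  have hTK : T ≤ K := hT ▸ map_subtype_le _
  have pT : IsPGroup 2 T := hT ▸ hT₀.map _
  have hT1' : T ≠ ⊥ := fun e => hT1 ((Subgroup.map_eq_bot_iff_of_injective _ hf).1 (hT ▸ e))
  obtain ⟨L, hL⟩ : ∃ L, L = K ⊓ 𝐍(T) := ⟨_, rfl⟩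
  have hL₀ : 𝐍(T₀).map K.subtype = L := by
    have := map_inf_norm hf ⊤ T₀
    rwa [top_inf_eq, ← MonoidHom.range_eq_map, range_subtype, ← hT, ← hL] at this
  suffices hs : L ⊓ 𝐂(pCoreOf 2 L) ≤ pCoreOf 2 L by
    refine centralizer_map_subtype_le_iff.2 ?_
    change 𝐍(T₀) ⊓ 𝐂(pCoreOf 2 𝐍(T₀)) ≤ pCoreOf 2 𝐍(T₀)
    rw [← map_le_map_iff_of_injective hf, map_inf_cent hf, ← pCoreOf_map hf Nat.prime_two, hL₀]
    exact hs
  obtain ⟨t, ht, ht2⟩ := exists_mem_orderOf_eq_prime Nat.prime_two (prime_dvd_card_of_isPGroup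
    Nat.prime_two (pT.to_le (inf_le_left : 𝐙(T) ≤ T))
    (center_ne_bot (isNilpotent_of_isPGroup Nat.prime_two pT) hT1'))
  have t2 : t ^ 2 = 1 := ht2 ▸ pow_orderOf_eq_one t
  have t1 : t ≠ 1 := by rintro rfl; simp at ht2
  have hTL : T ⊲ L := hL ▸ ⟨le_inf hTK (le_norm_self T), inf_le_right⟩
  obtain ⟨C, hCd⟩ : ∃ C, C = L ⊓ 𝐂(pCoreOf 2 L) := ⟨_, rfl⟩
  have hCT : C ≤ 𝐂(T) := hCd ▸ inf_le_right.trans (cent_anti (le_pCoreOf hTL pT))
  have hCt : C ≤ 𝐂[t] := hCT.trans (cent_le_cent1 (mem_inf.1 ht).1)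
  have hNC : 𝐍(L) ≤ 𝐍(C) := hCd ▸ H1.le_normalizer_inf le_rfl
    (H1.le_normalizer_centralizer (normalizer_le_normalizer_pCoreOf 2 L))
  have hCL : C ⊲ L := ⟨hCd ▸ inf_le_left, (le_norm_self L).trans hNC⟩
  have h1 : pPrimeCoreOf 2 C = ⊥ := by
    rw [eq_bot_iff, ← h t (hTK (mem_inf.1 ht).1) t1 t2]
    refine le_pPrimeCoreOf_of_centralizer (hC t t1 t2) (mem_cent_iff_cent1.1 (mem_inf.1 ht).2) pT
      ((pPrimeCoreOf_le 2 C).trans hCt) (coprime_card_pPrimeCoreOf 2 C)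
      ((pPrimeCoreOf_le 2 C).trans hCT) ?_
    refine le_trans ?_ (hNC.trans (normalizer_le_normalizer_pPrimeCoreOf 2 C))
    rw [hL]
    exact H1.le_normalizer_inf (le_top.trans (normalizer_eq_top K).ge)
      (H1.le_normalizer_normalizer (inf_le_right.trans (cent_le_norm T)))
  have h2 := cent_pCoreOf_le Nat.prime_two (H1.isSolvable_of_le hCt (hC t t1 t2)) h1
  have h3 : pCoreOf 2 C ≤ pCoreOf 2 L := le_pCoreOf ⟨(pCoreOf_le 2 C).trans hCL.1,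
    hCL.2.trans (normalizer_le_normalizer_pCoreOf 2 C)⟩ (isPGroup_pCoreOf 2 C)
  rw [← hCd]
  exact (le_inf le_rfl ((hCd ▸ inf_le_right : C ≤ 𝐂(pCoreOf 2 L)).trans (cent_anti h3))).trans
    (h2.trans h3)

/-- The basic dichotomy. -/
theorem dichotomy (hC : CSolv G) (hO' : pPrimeCore 2 G = ⊥) {S V U K : Subgroup G} [K.Normal]
    (hS : IsSyl 2 S ⊤) (hR : S ⊓ pResidual 2 G ≠ ⊥) (hK : pResidual 2 G ≤ K) (hV : V ≤ 𝐙(S))
    (hU : 𝐨(U).Coprime 2) (hM : ∀ x : G, V ^ᵍ x ≤ S → x ∈ 𝐍(U))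
    (hO : ∀ s ∈ K, s ≠ 1 → s ^ 2 = 1 → Ext S s → oc s ≤ U) :
    (∃ M : Subgroup (pResidual 2 G), IsStronglyEmbedded M) ∨ IsCharacteristicTwoType K := by
  by_cases hU1 : U = ⊥
  · refine Or.inr (charTwo hC ((prime_dvd_card_of_isPGroup Nat.prime_two
      (hS.pgrp.to_le inf_le_left) hR).trans (FT.card_dvd_of_le (inf_le_right.trans hK)))
      fun t ht h1 h2 => ?_)
    obtain ⟨k, hk⟩ := exists_ext hS h2
    have := hO _ (Normal.conj_mem ‹_› t ht k) (by simpa using h1) (by rw [conj_pow, h2]; group) hk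
    rwa [hU1, le_bot_iff, oc_conj, conj_eq_bot_iff] at this
  have hSM : S ≤ 𝐍(U) := fun x hx => hM x (conj_le_of_mem (hV.trans inf_le_left) hx)
  refine Or.inl (exists_stronglyEmbedded hS hSM (fun hH => hU1 ?_) hR fun s hs h1 h2 hsS g hg =>
    mem_of_conj_mem hC hS hV hM (fun s a b c d => (hO s a b c d).trans (le_norm_self U))
      (hK hs) h1 h2 hsS hg)
  have h1 := H8.sup_pResidual_eq_top (p := 2) (H := S) (by rw [← relIndex_top_right]; exact hS.ndvd)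
  rw [eq_bot_iff, ← hO', ← pPrimeCoreOf_top]
  exact le_pPrimeCoreOf ⟨le_top, h1 ▸ sup_le hSM hH⟩ hU

end Cfsg.Agent.H2.ZC
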