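import Cfsg.Agent.FT.BG03a
import Cfsg.Agent.FT.B.helper1_Core
import Cfsg.Agent.H4.Higman

/-! Solvable groups without three commuting elements of distinct prime orders: basic tools. -/

set_option autoImplicit false
set_option linter.unusedSectionVars false

namespace Cfsg.Agent.H2.Four

open Subgroup Cfsg Cfsg.Agent Cfsg.Agent.FT
open scoped commutatorElement

universe u

/-- Three distinct primes. -/
def D3 (p q r : ℕ) : Prop := p.Prime ∧ q.Prime ∧ r.Prime ∧ p ≠ q ∧ p ≠ r ∧ q ≠ r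

/-- Four distinct primes. -/
def D4 (p q r s : ℕ) : Prop :=
  p.Prime ∧ q.Prime ∧ r.Prime ∧ s.Prime ∧ p ≠ q ∧ p ≠ r ∧ p ≠ s ∧ q ≠ r ∧ q ≠ s ∧ r ≠ s

scoped notation "d3!" => (by refine ⟨?_, ?_, ?_, ?_, ?_, ?_⟩ <;> first | assumption | omega)
scoped notation "d4!" =>
  (by refine ⟨?_, ?_, ?_, ?_, ?_, ?_, ?_, ?_, ?_, ?_⟩ <;> first | assumption | omega)

/-- No three pairwise commuting elements of distinct prime orders. -/
def N3 (G : Type u) [Group G] : Prop :=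
  ∀ ⦃p q r : ℕ⦄, D3 p q r → ∀ ⦃a b c : G⦄, orderOf a = p → orderOf b = q → orderOf c = r →
    Commute a b → Commute a c → Commute b c → False

variable {G : Type u} [Group G] [Finite G] {p q r s : ℕ}

theorem ex_ord (hp : p.Prime) {W : Subgroup G} (hW : IsPGroup p W) (h : W ≠ ⊥) :
    ∃ x ∈ W, orderOf x = p :=
  exists_mem_orderOf_eq_prime hp (prime_dvd_card_of_isPGroup hp hW h)

theorem ne_one_of_ord (hp : p.Prime) {x : G} (h : orderOf x = p) : x ≠ 1 := by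
  rintro rfl
  exact hp.one_lt.ne (by rw [← h, orderOf_one])

theorem card_zp {x : G} (h : orderOf x = p) : 𝐨(zpowers x) = p := (Nat.card_zpowers x).trans h

theorem pgrp_zp {x : G} (h : orderOf x = p) : IsPGroup p (zpowers x) :=
  isPGroup_of_card_prime (card_zp h)

theorem cop (hp : p.Prime) (hq : q.Prime) (h : p ≠ q) {A B : Subgroup G} (hA : IsPGroup p A)
    (hB : IsPGroup q B) : 𝐨(A).Coprime 𝐨(B) := coprime_card_of_isPGroup hp hq h hA hB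

theorem norm_cent1 {A : Subgroup G} {x : G} (h : A ≤ 𝐂[x]) : A ≤ 𝐍(𝐂[x]) :=
  h.trans (le_norm_self _)

theorem N3.inf_eq_bot (h : N3 G) (d : D3 p q r) {W : Subgroup G} (hW : IsPGroup p W) {a b : G}
    (ha : orderOf a = q) (hb : orderOf b = r) (hab : Commute a b) : W ⊓ 𝐂[a] ⊓ 𝐂[b] = ⊥ := by
  by_contra hne
  obtain ⟨w, hw, ho⟩ := ex_ord d.1 (hW.to_le (inf_le_left.trans inf_le_left)) hne
  exact h d ho ha hb (mem_cent1_iff_commute.1 hw.1.2).symm (mem_cent1_iff_commute.1 hw.2).symm hab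

theorem N3.two (h : N3 G) (d : D3 p s q) {V N : Subgroup G} (hV : IsPGroup p V)
    (hN : IsPGroup s N) (hVN : V ≤ 𝐂(N)) {x : G} (hx : orderOf x = q) (h1 : V ⊓ 𝐂[x] ≠ ⊥) :
    N ⊓ 𝐂[x] = ⊥ := by
  by_contra hne
  obtain ⟨n, hn, ho⟩ := ex_ord d.2.1 (hN.to_le inf_le_left) hne
  have := h.inf_eq_bot d hV ho hx (mem_cent1_iff_commute.1 hn.2).symm
  rw [inf_eq_left.2 (hVN.trans (cent_le_cent1 hn.1))] at this
  exact h1 this

/-- Three further primes cannot all divide the order of the centralizer. -/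
theorem N3.cent (h : N3 G) (hG : Group.IsSolvable G) (d : D4 p q r s) {x : G} (hx : orderOf x = p)
    (h1 : q ∣ 𝐨(𝐂[x])) (h2 : r ∣ 𝐨(𝐂[x])) (h3 : s ∣ 𝐨(𝐂[x])) : False := by
  obtain ⟨hp, hq, hr, hs, pq, pr, ps, qr, qs, rs⟩ := d
  have key : ∀ a b : ℕ, D3 p a b → ∀ g : 𝐂[x], orderOf g ≠ a * b := fun a b d g hg => by
    have hc : Commute x g := mem_cent1_iff_commute.1 g.2
    rw [← Subgroup.orderOf_coe] at hg
    refine h d hx (b := g.1 ^ b) (c := g.1 ^ a) ?_ ?_ (hc.pow_right _) (hc.pow_right _)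
      (Commute.pow_pow_self _ _ _)
    · rw [orderOf_pow_of_dvd d.2.2.1.ne_zero (hg ▸ dvd_mul_left _ _), hg,
        Nat.mul_div_cancel _ d.2.2.1.pos]
    · rw [orderOf_pow_of_dvd d.2.1.ne_zero (hg ▸ dvd_mul_right _ _), hg,
        Nat.mul_div_cancel_left _ d.2.1.pos]
  rcases H4.exists_orderOf_mul_of_three_primes (G := 𝐂[x]) hq hr hs qr qs rs h1 h2 h3 with
    ⟨g, hg⟩ | ⟨g, hg⟩ | ⟨g, hg⟩
  · exact key _ _ d3! g hg
  · exact key _ _ d3! g hg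
  · exact key _ _ d3! g hg

theorem dvd_cent1 (hp : p.Prime) {W : Subgroup G} (hW : IsPGroup p W) {x : G}
    (h : W ⊓ 𝐂[x] ≠ ⊥) : p ∣ 𝐨(𝐂[x]) :=
  (prime_dvd_card_of_isPGroup hp (hW.to_le inf_le_left) h).trans (FT.card_dvd_of_le inf_le_right)

theorem ex_fix (hp : p.Prime) (hr : r.Prime) (pr : p ≠ r) {W E : Subgroup G} (hW : IsPGroup p W)
    (h1 : W ≠ ⊥) (hE : IsElementaryAbelian r E) (hnc : ¬ IsCyclic E) (hEW : E ≤ 𝐍(W)) :
    ∃ e ∈ E, orderOf e = r ∧ W ⊓ 𝐂[e] ≠ ⊥ := by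
  obtain ⟨e, he, he1, h⟩ := H1.exists_centralizer_ne_bot hE.1 hnc hEW
    (cop hr hp pr.symm (elemAb_isPGroup hE) hW) h1
  exact ⟨e, he, elemAb_orderOf hr hE he he1, h⟩

/-- An element centralizing a noncyclic elementary abelian group has no fixed points. -/
theorem N3.star (h : N3 G) (d : D3 p q r) {W E : Subgroup G} (hW : IsPGroup p W)
    (hE : IsElementaryAbelian r E) (hnc : ¬ IsCyclic E) (hEW : E ≤ 𝐍(W)) {a : G}
    (ha : orderOf a = q) (hEa : E ≤ 𝐂[a]) : W ⊓ 𝐂[a] = ⊥ := by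
  by_contra hne
  obtain ⟨e, he, ho, h1⟩ := ex_fix d.1 d.2.2.1 d.2.2.2.2.1 (hW.to_le inf_le_left) hne hE hnc
    (H1.le_normalizer_inf hEW (norm_cent1 hEa))
  exact h1 (h.inf_eq_bot d hW ha ho (mem_cent1_iff_commute.1 (hEa he)))

theorem frob_cent {K R M : Subgroup G} (h : Frob K R) (hKM : K ≤ 𝐍(M)) (hRM : R ≤ 𝐍(M))
    (hc : 𝐨(M).Coprime 𝐨(K ⊔ R)) (hs : Group.IsSolvable M) (hle : M ⊓ 𝐂(R) ≤ 𝐂(K)) :
    K ≤ 𝐂(M) := by
  have h1 := h.wielandt_fix hKM hRM hc hs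
  have h2 : M ⊓ 𝐂(K ⊔ R) = M ⊓ 𝐂(R) := by
    rw [cent_sup]
    exact le_antisymm (inf_le_inf_left _ inf_le_right) (le_inf inf_le_left (le_inf hle inf_le_right))
  rw [h2] at h1
  have h3 := Nat.eq_of_mul_eq_mul_left (pow_pos Nat.card_pos _) h1
  exact cent_comm.1 ((H1.eq_of_le_of_card_le inf_le_left h3.le).ge.trans inf_le_right)

theorem frob_prime (d : D3 p q r) {U M : Subgroup G} (hM : IsPGroup p M) (hU : IsPGroup q U)
    {y : G} (hy : orderOf y = r) (hyU : y ∈ 𝐍(U)) (h0 : U ⊓ 𝐂[y] = ⊥) (hUM : U ≤ 𝐍(M))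
    (hyM : y ∈ 𝐍(M)) (hle : M ⊓ 𝐂[y] ≤ 𝐂(U)) : U ≤ 𝐂(M) := by
  obtain ⟨hp, hq, hr, pq, pr, qr⟩ := d
  by_cases h1 : U = ⊥
  · exact h1.le.trans bot_le
  have hyU' := zpowers_le.2 hyU
  refine frob_cent (R := zpowers y) ⟨h1, zpowers_ne_bot.2 (ne_one_of_ord hr hy), hyU',
    semiReg_of_card_prime ((card_zp hy).symm ▸ hr) (by rwa [cent_zpowers])⟩ hUM (zpowers_le.2 hyM)
    ?_ (isSolvable_of_isNilpotent (isNilpotent_of_isPGroup hp hM)) (by rwa [cent_zpowers])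
  rw [sup_comm]
  exact isPi_coprime (π := {p}) ((isPi_singleton_iff hp).2 hM)
    (isPi_sup (isPi_of_isPGroup hr (pgrp_zp hy) pr.symm) (isPi_of_isPGroup hq hU pq.symm) hyU')

theorem comm_inf_cent (hq : q.Prime) (hr : r.Prime) (qr : q ≠ r) {U : Subgroup G}
    (hU : IsElementaryAbelian q U) {y : G} (hy : orderOf y = r) (hyU : y ∈ 𝐍(U)) :
    ⁅U, zpowers y⁆ ⊓ 𝐂[y] = ⊥ := by
  rw [inf_comm, ← cent_zpowers]
  exact H1.centralizer_inf_commutator_eq_bot hU.1 (zpowers_le.2 hyU)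
    (cop hr hq qr.symm (pgrp_zp hy) (elemAb_isPGroup hU))

theorem comm_cent (d : D3 p q r) {U M : Subgroup G} (hM : IsPGroup p M)
    (hU : IsElementaryAbelian q U) {y : G} (hy : orderOf y = r) (hyU : y ∈ 𝐍(U)) (hUM : U ≤ 𝐍(M))
    (hyM : y ∈ 𝐍(M)) (h0 : M ⊓ 𝐂[y] = ⊥) : ⁅U, zpowers y⁆ ≤ 𝐂(M) := by
  have h1 : ⁅U, zpowers y⁆ ≤ U := H1.commutator_le_of_le_normalizer (zpowers_le.2 hyU)
  exact frob_prime d hM ((elemAb_isPGroup hU).to_le h1) hy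
    (H1.le_normalizer_commutator_self (mem_zpowers y))
    (comm_inf_cent d.2.1 d.2.2.1 d.2.2.2.2.2 hU hy hyU) (h1.trans hUM) hyM (h0.le.trans bot_le)

theorem le_pCore_of_cent (hq : q.Prime) {L A : Subgroup G} (hL : Group.IsSolvable L) (hA : A ≤ L)
    (hAq : IsPGroup q A) (h : ∀ t : ℕ, t.Prime → pCoreOf t L ≠ ⊥ → A ≤ 𝐂(pCoreOf t L)) :
    A ≤ pCoreOf q L := by
  haveI := Fact.mk hq
  refine H2.le_pCoreOf_of_le_fittingOf hAq ((le_inf hA ?_).trans (cent_fittingOf_le hL))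
  rw [cent_comm, H2.fittingOf_eq_iSup_pCoreOf]
  refine iSup_le fun t => ?_
  by_cases h1 : pCoreOf t L = ⊥
  · exact h1.le.trans bot_le
  · exact cent_comm.1 (h t t.2 h1)

theorem mem_of_pCore_ne_bot {π : Set ℕ} {L : Subgroup G} (hL : IsPiSubgroup π L) {t : ℕ}
    (ht : t.Prime) (h : pCoreOf t L ≠ ⊥) : t ∈ π :=
  hL t ht ((prime_dvd_card_of_isPGroup ht (H2.isPGroup_pCoreOf t L) h).trans
    (FT.card_dvd_of_le (H2.pCoreOf_le t L)))

theorem ex_pCore {L : Subgroup G} (hL : Group.IsSolvable L) (h : L ≠ ⊥) :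
    ∃ t : ℕ, t.Prime ∧ pCoreOf t L ≠ ⊥ := by
  by_contra hc
  push Not at hc
  obtain ⟨t, ht, hd⟩ := exists_prime_dvd_card h
  obtain ⟨X, hX, hXt⟩ := exists_le_card_eq_prime ht hd
  exact ne_bot_of_card_prime (hXt ▸ ht) (eq_bot_iff.2 ((le_pCore_of_cent ht hL hX
    (isPGroup_of_card_prime hXt) fun t ht h => (h (hc t ht)).elim).trans (hc t ht).le))

/-- `Ω₁(Z(T))`. -/
theorem ex_omZ (hq : q.Prime) {T : Subgroup G} (hT : IsPGroup q T) (h : T ≠ ⊥) :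
    ∃ X : Subgroup G, X ≤ T ∧ T ≤ 𝐂(X) ∧ X ≠ ⊥ ∧ IsElementaryAbelian q X ∧ 𝐍(T) ≤ 𝐍(X) :=
  ⟨omegaOne q 𝐙(T), (omegaOne_le _ _).trans inf_le_left,
    cent_comm.1 ((omegaOne_le _ _).trans inf_le_right),
    omegaOne_ne_bot hq (prime_dvd_card_of_isPGroup hq (hT.to_le inf_le_left)
      (center_ne_bot (isNilpotent_of_isPGroup hq hT) h)),
    elemAb_omegaOne (isMulComm_center T),
    (norm_le_norm_center T).trans (norm_le_norm_omegaOne _ q)⟩

theorem card_of_cyc (hq : q.Prime) {X : Subgroup G} (hX : IsElementaryAbelian q X) (h : X ≠ ⊥)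
    (hc : IsCyclic X) : 𝐨(X) = q := by
  rw [← omegaOne_eq_self hX.2]
  exact card_omegaOne_of_isCyclic hq hc (prime_dvd_card_of_isPGroup hq (elemAb_isPGroup hX) h)

theorem le_cent_or {X : Subgroup G} (hX : 𝐨(X).Prime) (y : G) : X ⊓ 𝐂[y] = ⊥ ∨ X ≤ 𝐂[y] :=
  inf_eq_bot_or_le_of_card_prime hX _

/-- An `r`-group normalizing a group of prime order `q` with `r ∤ q - 1` centralizes it. -/
theorem le_cent_of_not_dvd (hq : q.Prime) (hr : r.Prime) {X A : Subgroup G} (hX : 𝐨(X) = q)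
    (hA : IsPGroup r A) (hAX : A ≤ 𝐍(X)) (h : ¬ r ∣ q - 1) : A ≤ 𝐂(X) := by
  have h1 := relIndex_cent_dvd_of_prime (hX ▸ hq) hAX
  obtain ⟨n, hn⟩ := exists_card_eq_pow hr hA
  obtain ⟨k, -, hk⟩ := (Nat.dvd_prime_pow hr).1 (hn ▸ relIndex_dvd_card' 𝐂(X) A)
  rw [hk, hX] at h1
  rcases k with _ | k
  · exact relIndex_eq_one.1 (by simpa using hk)
  · exact (h ((dvd_pow_self r k.succ_ne_zero).trans h1)).elim

theorem not_dvd_sub_one (hq : q.Prime) (h : q ≤ r) (hr : r.Prime) : ¬ r ∣ q - 1 := fun h1 => by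
  have := hq.two_le
  have := Nat.le_of_dvd (by omega) h1
  omega

theorem le_of_dvd_sub_one (hq : q.Prime) (h : r ∣ q - 1) : r ≤ q := by
  have := Nat.le_of_dvd (by have := hq.two_le; omega) h
  omega

/-- Two commuting subgroups of order `q` in a group of `q`-rank one coincide. -/
theorem mem_of_rank (hq : q.Prime) {C X : Subgroup G} (hX : 𝐨(X) = q) (hXC : X ≤ C)
    (h : ∀ E : Subgroup G, E ≤ C → IsElementaryAbelian q E → IsCyclic E) {x : G} (hx : x ∈ C)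
    (hxq : x ^ q = 1) (hc : x ∈ 𝐂(X)) : x ∈ X := by
  have h1 := elemAb_sup (elemAb_of_card_prime hq hX) (elemAb_zpowers hxq) (zpowers_le.2 hc)
  have h2 := card_of_cyc hq h1 (fun e => ne_bot_of_card_prime (hX ▸ hq) (eq_bot_iff.2
    (le_sup_left.trans e.le))) (h _ (sup_le hXC (zpowers_le.2 hx)) h1)
  exact (H1.eq_of_le_of_card_le le_sup_left (h2.trans hX.symm).le).ge
    (le_sup_right (a := X) (mem_zpowers x))

end Cfsg.Agent.H2.Four
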