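import Cfsg.Agent.H2.Four1

/-! Case II: faithful action, with a noncyclic invariant elementary abelian subgroup. -/

set_option autoImplicit false
set_option linter.unusedSectionVars false

namespace Cfsg.Agent.H2.Four

open Subgroup Cfsg Cfsg.Agent Cfsg.Agent.FT
open scoped commutatorElement

universe u

variable {G : Type u} [Group G] [Finite G] {p q r s : ℕ}

/-- A `q`-group of rank one has a unique subgroup of order `q`. -/
theorem ex_unique (hq : q.Prime) {C : Subgroup G} (hC : IsPGroup q C) (h1 : C ≠ ⊥)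
    (h : ∀ E : Subgroup G, E ≤ C → IsElementaryAbelian q E → IsCyclic E) :
    ∃ X : Subgroup G, 𝐨(X) = q ∧ X ≤ C ∧ 𝐍(C) ≤ 𝐍(X) ∧ ∀ x ∈ C, x ^ q = 1 → x ∈ X := by
  obtain ⟨X, h2, h3, h4, h5, h6⟩ := ex_omZ hq hC h1
  have h7 := card_of_cyc hq h5 h4 (h X h2 h5)
  exact ⟨X, h7, h2, h6, fun x hx hxq => mem_of_rank hq h7 h2 h hx hxq (h3 hx)⟩

theorem pow_ord {x : G} (h : orderOf x = q) : x ^ q = 1 := h ▸ pow_orderOf_eq_one x

structure C2 (p q r s : ℕ) (V N L : Subgroup G) : Prop where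
  n3 : N3 G
  sol : Group.IsSolvable G
  d : D4 p q r s
  hV : IsPGroup p V
  V1 : V ≠ ⊥
  hN : IsElementaryAbelian s N
  nc : ¬ IsCyclic N
  NV : N ≤ 𝐍(V)
  faith : N ⊓ 𝐂(V) = ⊥
  LV : L ≤ 𝐍(V)
  LN : L ≤ 𝐍(N)
  pi : IsPiSubgroup {q, r} L
  exE : ∃ E : Subgroup G, E ≤ L ∧ IsElem q 2 E
  exD : ∃ D : Subgroup G, D ≤ L ∧ IsElem r 2 D
  mix : ∃ a ∈ L, ∃ c ∈ L, orderOf a = q ∧ orderOf c = r ∧ Commute a c

namespace C2

variable {V N L : Subgroup G} (h : C2 p q r s V N L)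
include h

theorem swap : C2 p r q s V N L := by
  obtain ⟨hp, hq, hr, hs, pq, pr, ps, qr, qs, rs⟩ := h.d
  obtain ⟨a, ha, c, hc, h1, h2, h3⟩ := h.mix
  exact ⟨h.n3, h.sol, d4!, h.hV, h.V1, h.hN, h.nc, h.NV, h.faith, h.LV, h.LN,
    Set.pair_comm q r ▸ h.pi, h.exD, h.exE, c, hc, a, ha, h2, h1, h3.symm⟩

theorem N1 : N ≠ ⊥ := fun e => h.nc (e ▸ inferInstance)

theorem fix {y : G} (hy : y ∈ L) (ho : orderOf y = q) (hN : y ∉ 𝐂(N)) : V ⊓ 𝐂[y] ≠ ⊥ := fun e => by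
  obtain ⟨hp, hq, hr, hs, pq, pr, ps, qr, qs, rs⟩ := h.d
  have h1 := comm_cent d3! h.hV h.hN ho (h.LN hy) h.NV (h.LV hy) e
  have h2 : ⁅N, zpowers y⁆ = ⊥ := eq_bot_iff.2 ((le_inf (H1.commutator_le_of_le_normalizer
    (zpowers_le.2 (h.LN hy))) h1).trans h.faith.le)
  exact hN (cent_comm.1 (comm_eq_bot_iff.1 h2) (mem_zpowers y))

theorem fpf_aux {a c : G} (ha : a ∈ L) (hc : c ∈ L) (hao : orderOf a = q) (hco : orderOf c = r)
    (hac : Commute a c) (hN : c ∉ 𝐂(N)) : N ⊓ 𝐂[c] = ⊥ := by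
  obtain ⟨hp, hq, hr, hs, pq, pr, ps, qr, qs, rs⟩ := h.d
  by_contra hne
  have hsN := elemAb_isPGroup h.hN
  have hac' : a ∈ 𝐍(𝐂[c]) := le_norm_self _ (mem_cent1_iff_commute.2 hac.symm)
  have h1 := frob_prime d3! (h.hV.to_le inf_le_left) (hsN.to_le inf_le_left) hao
    (H1.le_normalizer_inf (zpowers_le.2 (h.LN ha)) (zpowers_le.2 hac') (mem_zpowers a))
    (h.n3.inf_eq_bot d3! hsN hco hao hac.symm)
    (H1.le_normalizer_inf (inf_le_left.trans h.NV) (norm_cent1 inf_le_right))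
    (H1.le_normalizer_inf (zpowers_le.2 (h.LV ha)) (zpowers_le.2 hac') (mem_zpowers a))
    ((h.n3.inf_eq_bot d3! h.hV hco hao hac.symm).le.trans bot_le)
  obtain ⟨n, hn, hno⟩ := ex_ord hs (hsN.to_le inf_le_left) hne
  have h2 := h.n3.inf_eq_bot d3! h.hV hco hno (mem_cent1_iff_commute.1 hn.2)
  rw [inf_eq_left.2 (mem_cent_iff_cent1.1 (h1 hn))] at h2
  exact h.swap.fix hc hco hN h2

theorem mix_cent {a c : G} (ha : a ∈ L) (hc : c ∈ L) (hao : orderOf a = q) (hco : orderOf c = r)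
    (hac : Commute a c) (hN : c ∉ 𝐂(N)) : a ∈ 𝐂(N) := by
  obtain ⟨hp, hq, hr, hs, pq, pr, ps, qr, qs, rs⟩ := h.d
  by_contra hN'
  have h1 := h.fpf_aux ha hc hao hco hac hN
  have h2 := h.swap.fpf_aux hc ha hco hao hac.symm hN'
  have hRL : zpowers a ⊔ zpowers c ≤ L := sup_le (zpowers_le.2 ha) (zpowers_le.2 hc)
  have hRa : zpowers a ⊔ zpowers c ≤ 𝐂(zpowers a) := by
    rw [cent_zpowers]
    exact sup_le (zpowers_le.2 (self_mem_cent1 a)) (zpowers_le.2 (mem_cent1_iff_commute.2 hac))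
  have hRc : zpowers a ⊔ zpowers c ≤ 𝐂(zpowers c) := by
    rw [cent_zpowers]
    exact sup_le (zpowers_le.2 (mem_cent1_iff_commute.2 hac.symm)) (zpowers_le.2 (self_mem_cent1 c))
  have hd : DProd (zpowers a) (zpowers c) (zpowers a ⊔ zpowers c) := ⟨rfl, le_sup_right.trans hRa,
    H1.inf_eq_bot_of_coprime' (cop hq hr qr (pgrp_zp hao) (pgrp_zp hco))⟩
  have hcy := hd.isCyclic inferInstance inferInstance (cop hq hr qr (pgrp_zp hao) (pgrp_zp hco))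
  have hF : Frob N (zpowers a ⊔ zpowers c) := ⟨h.N1, fun e => ne_one_of_ord hq hao
    (mem_bot.1 (e.le (le_sup_left (a := zpowers a) (mem_zpowers a)))), hRL.trans h.LN,
    semiReg_of_prime fun X hX hXp => by
      rcases h.pi _ hXp (FT.card_dvd_of_le (hX.trans hRL)) with e | e
      · rw [eq_of_card_prime_of_isCyclic hq hcy hX le_sup_left e (card_zp hao), cent_zpowers, h2]
      · rw [eq_of_card_prime_of_isCyclic hr hcy hX le_sup_right e (card_zp hco), cent_zpowers, h1]⟩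
  have h3 := frob_cent hF h.NV (hRL.trans h.LV) (by
    rw [sup_comm]
    refine isPi_coprime (π := {p}) ((isPi_singleton_iff hp).2 h.hV) (isPi_sup
      (isPi_mono ?_ (isPi_of_le hRL h.pi)) (isPi_of_isPGroup hs (elemAb_isPGroup h.hN) ps.symm)
      hF.norm)
    rintro t (rfl | rfl)
    exacts [pq.symm, pr.symm]) (isSolvable_of_isNilpotent (isNilpotent_of_isPGroup hp h.hV)) (by
      rw [cent_sup, cent_zpowers, cent_zpowers, ← inf_assoc, h.n3.inf_eq_bot d3! h.hV hao hco hac]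
      exact bot_le)
  exact h.N1 (eq_bot_iff.2 ((le_inf le_rfl h3).trans h.faith.le))

theorem not_both (h1 : q ∣ 𝐨(L ⊓ 𝐂(N))) (h2 : r ∣ 𝐨(L ⊓ 𝐂(N))) : False := by
  obtain ⟨hp, hq, hr, hs, pq, pr, ps, qr, qs, rs⟩ := h.d
  obtain ⟨n, hn, hno, hV⟩ := ex_fix hp hs ps h.hV h.V1 h.hN h.nc h.NV
  have h3 := FT.card_dvd_of_le ((inf_le_right (a := L)).trans (cent_le_cent1 hn))
  exact h.n3.cent h.sol (d4! : D4 s p q r) hno (dvd_cent1 hp h.hV hV) (h1.trans h3) (h2.trans h3)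

theorem final (h1 : q ∣ 𝐨(L ⊓ 𝐂(N))) : False := by
  obtain ⟨hp, hq, hr, hs, pq, pr, ps, qr, qs, rs⟩ := h.d
  have hsN := elemAb_isPGroup h.hN
  have hC : IsPGroup q ↥(L ⊓ 𝐂(N)) := (isPi_singleton_iff hq).1 fun t ht hd =>
    (h.pi t ht (hd.trans (FT.card_dvd_of_le inf_le_left))).resolve_right fun e =>
      h.not_both h1 (e ▸ hd)
  have hr' : ∀ y ∈ L, orderOf y = r → y ∉ 𝐂(N) := fun y hy ho hN =>
    h.not_both h1 (ho ▸ orderOf_dvd_card_of_mem (mem_inf.2 ⟨hy, hN⟩))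
  obtain ⟨X, hX, hXC, hCX, hXu⟩ := ex_unique hq hC (ne_bot_of_prime_dvd hq h1) fun E hE hEe => by
    by_contra hnc
    obtain ⟨e, he, heo, heV⟩ := ex_fix hp hq pq h.hV h.V1 hEe hnc
      ((hE.trans inf_le_left).trans h.LV)
    exact heV (h.n3.star d3! h.hV h.hN h.nc h.NV heo (mem_cent_iff_cent1.1 (hE he).2))
  have hLX : L ≤ 𝐍(X) := (H1.le_normalizer_inf (le_norm_self L)
    (H1.le_normalizer_centralizer h.LN)).trans hCX
  have hXL := hXC.trans inf_le_left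
  have hXq := isPGroup_of_card_prime hX
  obtain ⟨u, hu, huo⟩ := exists_mem_orderOf_eq_prime hq hX.symm.dvd
  have hfp : ∀ y : G, orderOf y = r → y ∈ 𝐂(X) → N ⊓ 𝐂[y] = ⊥ := fun y ho hy => by
    have := h.n3.inf_eq_bot d3! hsN huo ho (mem_cent.1 hy u hu)
    rwa [inf_eq_left.2 (mem_cent_iff_cent1.1 (hXC hu).2)] at this
  obtain ⟨D, hDL, hD⟩ := h.exD
  obtain ⟨E, hEL, hE⟩ := h.exE
  have hDc := hD.not_isCyclic hr le_rfl
  obtain ⟨d₁, hd₁, ho₁, hN₁⟩ := ex_fix hs hr rs.symm hsN h.N1 hD.1 hDc (hDL.trans h.LN)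
  have hX₁ : d₁ ∉ 𝐂(X) := fun e => hN₁ (hfp _ ho₁ e)
  have hrq : r ∣ q - 1 := by
    by_contra hn
    exact hX₁ (le_cent_of_not_dvd hq hr hX hD.pgrp (hDL.trans hLX) hn hd₁)
  obtain ⟨d₀, hd₀, ho₀, hX₀⟩ := ex_fix hq hr qr hXq (ne_bot_of_card_prime (hX ▸ hq)) hD.1 hDc
    (hDL.trans hLX)
  have hX₀' : d₀ ∈ 𝐂(X) := mem_cent_iff_cent1.2 ((le_cent_or (hX ▸ hq) d₀).resolve_left hX₀)
  have hO : pCoreOf r L = ⊥ := by
    by_contra hne
    have hOX : pCoreOf r L ≤ 𝐂(X) := le_cent_of_norm_of_coprime ((H2.pCoreOf_le r L).trans hLX)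
      (hXL.trans (H2.le_normalizer_pCoreOf r L)) (cop hq hr qr hXq (H2.isPGroup_pCoreOf r L))
    obtain ⟨Z, hZ, hZO, hOZ, -⟩ := ex_unique hr (H2.isPGroup_pCoreOf r L) hne fun B hB hBe => by
      by_contra hnc
      obtain ⟨e, he, heo, heN⟩ := ex_fix hs hr rs.symm hsN h.N1 hBe hnc
        ((hB.trans (H2.pCoreOf_le r L)).trans h.LN)
      exact heN (hfp e heo (hOX (hB he)))
    obtain ⟨z, hz, hzo⟩ := exists_mem_orderOf_eq_prime hr hZ.symm.dvd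
    have hzL := H2.pCoreOf_le r L (hZO hz)
    exact h.swap.fix hzL hzo (hr' z hzL hzo) (h.n3.star d3! h.hV hE.1 (hE.not_isCyclic hq le_rfl)
      (hEL.trans h.LV) hzo ((le_cent_of_not_dvd hr hq hZ hE.pgrp
        ((hEL.trans (H2.le_normalizer_pCoreOf r L)).trans hOZ)
        (not_dvd_sub_one hr (le_of_dvd_sub_one hq hrq) hq)).trans (cent_le_cent1 hz)))
  have hD₀ : 𝐨(D ⊓ 𝐂(X)) = r := hD.card_eq_of_two hr inf_le_left
    (fun e => ne_one_of_ord hr ho₀ (mem_bot.1 (e.le (mem_inf.2 ⟨hd₀, hX₀'⟩))))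
    fun e => hX₁ (e.ge hd₁).2
  have hQ : pCoreOf q L ≤ 𝐂[d₀] := H1.le_of_forall_centralizer_le hD.comm hDc
    (hDL.trans (H2.le_normalizer_pCoreOf q L)) (cop hr hq qr.symm hD.pgrp (H2.isPGroup_pCoreOf q L))
    fun d hd hd1 => by
      by_cases h0 : pCoreOf q L ⊓ 𝐂[d] = ⊥
      · exact h0.le.trans bot_le
      obtain ⟨a, ha, hao⟩ := ex_ord hq ((H2.isPGroup_pCoreOf q L).to_le inf_le_left) h0
      have hdo := elemAb_orderOf hr hD.1 hd hd1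
      have haL := H2.pCoreOf_le q L ha.1
      have haX := hXu a (mem_inf.2 ⟨haL, h.mix_cent haL (hDL hd) hao hdo
        (mem_cent1_iff_commute.1 ha.2).symm (hr' d (hDL hd) hdo)⟩) (pow_ord hao)
      have hdX : d ∈ 𝐂(X) := by
        rw [← cent1_eq_of_card_prime (hX ▸ hq) haX (ne_one_of_ord hq hao)]
        exact mem_cent1_comm.1 ha.2
      rw [cent1_eq_of_card_prime (hD₀ ▸ hr) (mem_inf.2 ⟨hd, hdX⟩) hd1,
        cent1_eq_of_card_prime (hD₀ ▸ hr) (mem_inf.2 ⟨hd₀, hX₀'⟩) (ne_one_of_ord hr ho₀)]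
      exact inf_le_right
  haveI := h.sol
  have h2 := le_pCore_of_cent hr (L := L) inferInstance (zpowers_le.2 (hDL hd₀)) (pgrp_zp ho₀)
    fun t ht h3 => by
      rcases mem_of_pCore_ne_bot h.pi ht h3 with rfl | rfl
      · exact zpowers_le.2 (mem_cent_iff_cent1.2 hQ)
      · exact (h3 hO).elim
  exact ne_one_of_ord hr ho₀ (mem_bot.1 (hO.le (h2 (mem_zpowers d₀))))

theorem false : False := by
  obtain ⟨a, ha, c, hc, hao, hco, hac⟩ := h.mix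
  by_cases h1 : c ∈ 𝐂(N)
  · exact h.swap.final (hco ▸ orderOf_dvd_card_of_mem (mem_inf.2 ⟨hc, h1⟩))
  · exact h.final (hao ▸ orderOf_dvd_card_of_mem (mem_inf.2 ⟨ha, h.mix_cent ha hc hao hco hac h1⟩))

end C2

end Cfsg.Agent.H2.Four
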