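/-
Hk (S4266), chapter K5: numerics.
-/
import Mathlib

set_option autoImplicit false

namespace Cfsg.Agent.H2.Hk

/-- Bound for `|C : D|` that is good enough. -/
def el (E : ℕ) : ℕ :=
  if E ≤ 1 then 1 else if E = 2 then 24 else if E = 3 then 216 else if E = 4 then 2500 else
  if E ≤ 7 then E ^ 5 else if E ≤ 9 then 37000000 else E ^ (2 * Nat.log 2 E + 3)

theorem el_small : ∀ E < 32, 3 ≤ E → el E + 2 ≤ 21 * 11 ^ (E - 2) := by decide +kernel

theorem log_aux (L : ℕ) (h : 5 ≤ L) : (L + 1) * (2 * L + 3) + 6 ≤ 3 * 2 ^ L := by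
  induction L, h using Nat.le_induction with
  | base => norm_num
  | succ L hL ih => rw [pow_succ]; nlinarith

theorem el_le {E : ℕ} (h : 3 ≤ E) : el E + 2 ≤ 21 * 11 ^ (E - 2) := by
  rcases lt_or_ge E 32 with h1 | h1
  · exact el_small E h1 h
  have h2 : el E = E ^ (2 * Nat.log 2 E + 3) := by
    rw [el, if_neg (by omega), if_neg (by omega), if_neg (by omega), if_neg (by omega),
      if_neg (by omega), if_neg (by omega)]
  have h3 : 5 ≤ Nat.log 2 E := Nat.le_log_of_pow_le (by norm_num) h1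
  have h4 : 2 ^ Nat.log 2 E ≤ E := Nat.pow_log_le_self 2 (by omega)
  have h5 : E < 2 ^ (Nat.log 2 E + 1) := Nat.lt_pow_succ_log_self (by norm_num) E
  have h6 := log_aux _ h3
  rw [h2]
  generalize Nat.log 2 E = L at *
  have h7 : E ^ (2 * L + 3) ≤ 11 ^ (E - 2) :=
    calc _ ≤ (2 ^ (L + 1)) ^ (2 * L + 3) := Nat.pow_le_pow_left h5.le _
      _ ≤ 2 ^ (3 * (E - 2)) := by
        rw [← pow_mul]; exact Nat.pow_le_pow_right (by norm_num) (by omega)
      _ ≤ _ := by rw [pow_mul]; exact Nat.pow_le_pow_left (by norm_num) _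
  have h8 : 1 ≤ 11 ^ (E - 2) := Nat.one_le_pow _ _ (by norm_num)
  omega

theorem sq_le_four_pow (j : ℕ) : (j + 1) ^ 2 ≤ 4 ^ j := by
  rw [show 4 = 2 ^ 2 by norm_num, ← pow_mul, mul_comm 2 j, pow_mul]
  exact Nat.pow_le_pow_left Nat.lt_two_pow_self _

theorem num_prim {t E c m : ℕ} (ht : 1 ≤ t) (hE : 1 ≤ E) (hm : t * E ≤ m) (hc : c ≤ el E) :
    (m ≤ 1 → (c + 2) * t ^ 2 ≤ 3) ∧ (m ≤ 2 → (c + 2) * t ^ 2 ≤ 27) ∧
      (3 ≤ m → (c + 2) * t ^ 2 ≤ 21 * 11 ^ (m - 2)) := by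
  have small : t * E ≤ 2 → (c + 2) * t ^ 2 ≤ 27 := fun h => by
    have h1 : t ≤ 2 := by nlinarith
    have h2 : E ≤ 2 := by nlinarith
    interval_cases t <;> interval_cases E <;> simp [el] at hc h ⊢ <;> omega
  refine ⟨fun h => ?_, fun h => small (hm.trans h), fun h => ?_⟩
  · have h1 : t ≤ 1 := by nlinarith
    have h2 : E ≤ 1 := by nlinarith
    interval_cases t
    interval_cases E
    simp [el] at hc ⊢
    omega
  rcases le_or_gt (t * E) 2 with h1 | h1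
  · have h2 : 11 ^ 1 ≤ 11 ^ (m - 2) := Nat.pow_le_pow_right (by norm_num) (by omega)
    have := small h1
    omega
  refine le_trans ?_ (Nat.mul_le_mul_left 21
    (Nat.pow_le_pow_right (by norm_num) (Nat.sub_le_sub_right hm 2)))
  obtain ⟨j, rfl⟩ := Nat.exists_eq_add_of_le' ht
  have h2 := sq_le_four_pow j
  rcases lt_or_ge E 3 with h3 | h3
  · interval_cases E
    · have h4 : c ≤ 1 := by simpa [el] using hc
      obtain ⟨i, rfl⟩ : ∃ i, j = i + 1 := ⟨j - 1, by omega⟩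
      have h5 : 4 ^ i ≤ 11 ^ i := Nat.pow_le_pow_left (by norm_num) _
      rw [show (i + 1 + 1) * 1 - 2 = i by omega]
      rw [pow_succ 4] at h2
      nlinarith
    · have h4 : c ≤ 24 := by simpa [el] using hc
      obtain ⟨i, rfl⟩ : ∃ i, j = i + 1 := ⟨j - 1, by omega⟩
      have h5 : 4 ^ i ≤ (11 ^ 2) ^ i := Nat.pow_le_pow_left (by norm_num) _
      rw [show (i + 1 + 1) * 2 - 2 = 2 * i + 2 by omega, pow_add 11, pow_mul]
      rw [pow_succ 4] at h2
      nlinarith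
  · have h4 := el_le h3
    have h5 : 4 ^ j ≤ 11 ^ (j * E) :=
      (Nat.pow_le_pow_left (by norm_num) _).trans
        (Nat.pow_le_pow_right (by norm_num) (Nat.le_mul_of_pos_right _ hE))
    rw [show (j + 1) * E - 2 = E - 2 + j * E by rw [add_mul]; omega, pow_add 11, ← mul_assoc]
    exact Nat.mul_le_mul (by omega) (h2.trans h5)

theorem pow_aux1 (j : ℕ) : 576 ^ (j + 2) ≤ 343 * 1331 ^ (j + 1) := by
  have : 576 ^ j ≤ 1331 ^ j := Nat.pow_le_pow_left (by norm_num) _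
  rw [pow_add, pow_add]
  omega

theorem pow_aux2 (j : ℕ) : 576 ^ (j + 1) * 729 ^ (j + 2) ≤ 343 * 1331 ^ (2 * (j + 1)) := by
  have : 576 ^ j * 729 ^ j ≤ (1331 ^ 2) ^ j := by
    rw [← mul_pow]; exact Nat.pow_le_pow_left (by norm_num) _
  calc _ = 576 ^ j * 729 ^ j * (576 * 729 ^ 2) := by ring
    _ ≤ (1331 ^ 2) ^ j * (343 * 1331 ^ 2) := Nat.mul_le_mul this (by norm_num)
    _ = _ := by rw [← pow_mul]; ring

theorem num_blocks {s t m n y : ℕ} (hs : s ^ 3 * 24 ≤ 24 ^ t) (ht : 1 ≤ t) (hm : 1 ≤ m)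
    (hn : t * m ≤ n) (h3 : 3 ≤ n) (y1 : m ≤ 1 → y ≤ 3) (y2 : m ≤ 2 → y ≤ 27)
    (y3 : 3 ≤ m → y ≤ 21 * 11 ^ (m - 2)) : s ^ 2 * y ^ t ≤ 7 * 11 ^ (n - 2) * 3 ^ t := by
  obtain ⟨j, rfl⟩ := Nat.exists_eq_add_of_le' ht
  have hs1 : s ^ 3 ≤ 24 ^ j := by rw [pow_succ 24] at hs; omega
  have hs2 : (s ^ 2) ^ 3 ≤ 576 ^ j := by
    calc _ = (s ^ 3) ^ 2 := by ring
      _ ≤ (24 ^ j) ^ 2 := Nat.pow_le_pow_left hs1 _
      _ = _ := by rw [← pow_mul, mul_comm, pow_mul]; norm_num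
  rcases Nat.eq_zero_or_pos j with rfl | hj
  · have h4 : s ^ 2 ≤ 1 := by
      by_contra! h
      have := Nat.pow_le_pow_left (show 2 ≤ s ^ 2 from h) 3
      omega
    have h5 : y ≤ 21 * 11 ^ (n - 2) := by
      rcases le_or_gt m 2 with h | h
      · have h2 : 11 ^ 1 ≤ 11 ^ (n - 2) := Nat.pow_le_pow_right (by norm_num) (by omega)
        have := y2 h
        omega
      · exact (y3 h).trans (Nat.mul_le_mul_left 21
          (Nat.pow_le_pow_right (by norm_num) (by omega)))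
    simp only [zero_add, pow_one]
    nlinarith
  rcases le_or_gt m 1 with h | h
  · refine Nat.mul_le_mul ?_ (Nat.pow_le_pow_left (y1 h) _)
    refine (Nat.pow_le_pow_iff_left (n := 3) (by norm_num)).1 (hs2.trans ?_)
    obtain ⟨i, rfl⟩ := Nat.exists_eq_add_of_le' h3
    have h4 : j ≤ i + 2 := by nlinarith
    refine (Nat.pow_le_pow_right (by norm_num) h4).trans ((pow_aux1 i).trans (le_of_eq ?_))
    rw [show i + 3 - 2 = i + 1 by omega, mul_pow, ← pow_mul, mul_comm (i + 1) 3, pow_mul]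
    norm_num
  · obtain ⟨i, rfl⟩ := Nat.exists_eq_add_of_le' (show 1 ≤ j from hj)
    obtain ⟨l, rfl⟩ := Nat.exists_eq_add_of_le' (show 2 ≤ m from h)
    have h4 : y ≤ 3 * (9 * 11 ^ l) := by
      rcases Nat.eq_zero_or_pos l with rfl | hl
      · simpa using y2 (by omega)
      · have := y3 (by omega)
        rw [show l + 2 - 2 = l by omega] at this
        omega
    have h5 : s ^ 2 * 9 ^ (i + 2) ≤ 7 * 11 ^ (2 * (i + 1)) := by
      refine (Nat.pow_le_pow_iff_left (n := 3) (by norm_num)).1 ?_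
      rw [mul_pow, mul_pow, ← pow_mul 9, ← pow_mul 11, mul_comm (i + 2) 3,
        mul_comm (2 * (i + 1)) 3, pow_mul 9, pow_mul 11]
      exact (Nat.mul_le_mul_right _ hs2).trans (pow_aux2 i)
    have h6 : 11 ^ (2 * (i + 1)) * 11 ^ (l * (i + 2)) ≤ 11 ^ (n - 2) := by
      rw [← pow_add]
      refine Nat.pow_le_pow_right (by norm_num) ?_
      have : (i + 1 + 1) * (l + 2) = 2 * (i + 1) + l * (i + 2) + 2 := by ring
      omega
    calc s ^ 2 * y ^ (i + 1 + 1) ≤ s ^ 2 * (3 * (9 * 11 ^ l)) ^ (i + 2) :=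
          Nat.mul_le_mul_left _ (Nat.pow_le_pow_left h4 _)
      _ = s ^ 2 * 9 ^ (i + 2) * 11 ^ (l * (i + 2)) * 3 ^ (i + 2) := by
          rw [mul_pow, mul_pow, ← pow_mul]; ring
      _ ≤ 7 * 11 ^ (2 * (i + 1)) * 11 ^ (l * (i + 2)) * 3 ^ (i + 2) := by gcongr
      _ ≤ _ := by rw [mul_assoc 7]; gcongr

theorem fin3 {p n k r h : ℕ} (hp : p = 11 ∨ 13 ≤ p) (hn : 3 ≤ n) (h1 : p ^ n ≤ r * h + 1)
    (h2 : h ≤ 7 * 11 ^ (n - 2) * k) : 49 * p ≤ 60 * (k + r) := by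
  by_contra! hlt
  obtain ⟨i, rfl⟩ := Nat.exists_eq_add_of_le' hn
  rw [show i + 3 - 2 = i + 1 by omega, pow_succ] at h2
  have h3 : p ^ (i + 3) ≤ 77 * 11 ^ i * (k * r) + 1 := h1.trans (by nlinarith)
  have h4 : 4 * (k * r) ≤ (k + r) ^ 2 := by nlinarith [sq_nonneg ((k : ℤ) - r)]
  have h0 : 1 ≤ 11 ^ i := Nat.one_le_pow _ _ (by norm_num)
  rcases hp with rfl | hp
  · have h5 : (k + r) ^ 2 ≤ 8 ^ 2 := Nat.pow_le_pow_left (by omega) _
    have h6 : k * r ≤ 16 := by omega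
    rw [pow_add] at h3
    nlinarith
  · have h5 : (60 * (k + r)) ^ 2 ≤ (49 * p) ^ 2 := Nat.pow_le_pow_left hlt.le _
    have h6 : 14400 * (k * r) ≤ 2401 * p ^ 2 := by nlinarith
    have h7 : 11 ^ i * 13 * p ^ 2 ≤ p ^ (i + 3) := by
      rw [show i + 3 = i + 1 + 2 by omega, pow_add, pow_succ p i]
      exact Nat.mul_le_mul_right _ (Nat.mul_le_mul (Nat.pow_le_pow_left (by omega) _) hp)
    have h8 : 13 ^ 2 ≤ p ^ 2 := Nat.pow_le_pow_left hp _
    have h9 : 11 ^ i * (14400 * (k * r)) ≤ 11 ^ i * (2401 * p ^ 2) := Nat.mul_le_mul_left _ h6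
    have h10 : p ^ 2 ≤ 11 ^ i * p ^ 2 := Nat.le_mul_of_pos_left _ h0
    nlinarith

theorem fin2 {p k r h : ℕ} (hp : 11 ≤ p) (h1 : p ^ 2 ≤ r * h + 1) (h2 : h ≤ 5 * k) :
    49 * p ≤ 60 * (k + r) := by
  by_contra! hlt
  have h3 : p ^ 2 ≤ 5 * (k * r) + 1 := h1.trans (by nlinarith)
  have h4 : 4 * (k * r) ≤ (k + r) ^ 2 := by nlinarith [sq_nonneg ((k : ℤ) - r)]
  have h5 : (60 * (k + r)) ^ 2 ≤ (49 * p) ^ 2 := Nat.pow_le_pow_left hlt.le _
  have h8 : 11 ^ 2 ≤ p ^ 2 := Nat.pow_le_pow_left hp _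
  nlinarith

theorem fin_s4 {p k r z : ℕ} (hp : 11 ≤ p) (h1 : p ^ 2 ≤ r * (24 * z) + 1) (hz : z ∣ p - 1)
    (hk : 4 * z ≤ k) : 49 * p ≤ 60 * (k + r) := by
  obtain ⟨m, hm⟩ := hz
  obtain rfl : p = z * m + 1 := by omega
  have hz0 : 0 < z := by
    rcases Nat.eq_zero_or_pos z with rfl | h
    · omega
    · exact h
  have h2 : m * (z * m + 2) ≤ 24 * r := by
    refine Nat.le_of_mul_le_mul_left (c := z) ?_ hz0
    nlinarith
  rcases le_or_gt m 10 with h | h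
  · rcases le_or_gt z 2 with h3 | h3
    · interval_cases z <;> interval_cases m <;> omega
    · interval_cases m <;> omega
  · obtain ⟨j, rfl⟩ := Nat.exists_eq_add_of_le' h
    simp only [Nat.succ_eq_add_one] at *
    nlinarith [Nat.zero_le (z * j), Nat.zero_le (z * j * j)]

theorem unit2 {a b : ℕ} (ha : 0 < a) (hb : 0 < b) (h : (1 : ℚ) / a + 1 / b < 1) :
    (1 : ℚ) / a + 1 / b ≤ 5 / 6 := by
  wlog hab : a ≤ b generalizing a b
  · rw [add_comm] at h ⊢; exact this hb ha h (by omega)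
  have le : ∀ {x y : ℕ}, 0 < x → x ≤ y → (1 : ℚ) / y ≤ 1 / x := fun hx hxy =>
    one_div_le_one_div_of_le (by exact_mod_cast hx) (by exact_mod_cast hxy)
  have hb0 : (0 : ℚ) < 1 / b := by positivity
  rcases le_or_gt 3 a with h1 | h1
  · have := le (by norm_num) h1
    have := le (by norm_num) (h1.trans hab)
    push_cast at *
    linarith
  rcases le_or_gt 3 b with h2 | h2
  · have := le (by norm_num) h2
    interval_cases a <;> push_cast at * <;> linarith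
  · interval_cases a <;> interval_cases b <;> norm_num at h

theorem unit3 {a b c : ℕ} (ha : 0 < a) (hb : 0 < b) (hc : 0 < c)
    (h : (1 : ℚ) / a + 1 / b + 1 / c < 1) : (1 : ℚ) / a + 1 / b + 1 / c ≤ 41 / 42 := by
  have le : ∀ {x y : ℕ}, 0 < x → x ≤ y → (1 : ℚ) / y ≤ 1 / x := fun hx hxy =>
    one_div_le_one_div_of_le (by exact_mod_cast hx) (by exact_mod_cast hxy)
  have ha0 : (0 : ℚ) < 1 / a := by positivity
  have hb0 : (0 : ℚ) < 1 / b := by positivity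
  have hc0 : (0 : ℚ) < 1 / c := by positivity
  rcases le_or_gt 7 a with h1 | h1
  · have := le (by norm_num) h1
    have := unit2 hb hc (by linarith)
    push_cast at *
    linarith
  rcases le_or_gt 7 b with h2 | h2
  · have := le (by norm_num) h2
    have := unit2 ha hc (by linarith)
    push_cast at *
    linarith
  rcases le_or_gt 7 c with h3 | h3
  · have := le (by norm_num) h3
    have := unit2 ha hb (by linarith)
    push_cast at *
    linarith
  clear ha0 hb0 hc0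
  interval_cases a <;> interval_cases b <;> interval_cases c <;> revert h <;> norm_num

end Cfsg.Agent.H2.Hk
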