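import Cfsg.Prelude.Def_Transfer
import Cfsg.Agent.H1.Section
import Cfsg.Agent.H9.FrobAction

/-! An automorphism of prime order `p` acting irreducibly on an elementary abelian `q`-group. -/

namespace Cfsg.Agent.H2

open Subgroup

/-- If `σ ^ (q ^ e) = σ` acts irreducibly on an abelian group of exponent `q`, then
`|V| ≤ q ^ e`. -/
theorem card_le_of_irreducible_aut {V : Type*} [CommGroup V] [Finite V] {q e : ℕ} (hq : q.Prime)
    (he : 0 < e) (hV : ∀ v : V, v ^ q = 1) (σ : MulAut V) (hσ : σ ^ q ^ e = σ)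
    (hirr : ∀ U : Subgroup V, (∀ u ∈ U, σ u ∈ U) → U = ⊥ ∨ U = ⊤) : Nat.card V ≤ q ^ e := by
  classical
  rcases subsingleton_or_nontrivial V with hV' | hV'
  · rw [Nat.card_of_subsingleton (1 : V)]
    exact Nat.one_le_pow _ _ hq.pos
  let ψ : MulAut V →* AddMonoid.End (Additive V) :=
    { toFun := fun f => MonoidHom.toAdditive f.toMonoidHom
      map_one' := rfl
      map_mul' := fun _ _ => rfl }
  let s : Set (AddMonoid.End (Additive V)) := {ψ σ}
  have hs : ∀ x ∈ s, ∀ y ∈ s, x * y = y * x := by
    rintro _ rfl _ rfl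
    rfl
  let R := Subring.closure s
  have hσR : ψ σ ∈ R := Subring.subset_closure rfl
  have hR : ∀ r ∈ R, r * ψ σ = ψ σ * r := by
    intro r hr
    have : R ≤ Subring.centralizer s := Subring.closure_le.mpr fun x hx y hy => hs y hy x hx
    exact (this hr _ rfl).symm
  have hinj : ∀ r ∈ R, r ≠ 0 → Function.Injective r := by
    intro r hr hr0
    rcases hirr (AddSubgroup.toSubgroup' (AddMonoidHom.ker (r : Additive V →+ Additive V))) (by
      intro u hu
      have h1 : r (Additive.ofMul u) = 0 := hu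
      have h2 : r (ψ σ (Additive.ofMul u)) = ψ σ (r (Additive.ofMul u)) :=
        DFunLike.congr_fun (hR r hr) (Additive.ofMul u)
      rw [h1, map_zero] at h2
      exact h2) with h | h
    · rw [injective_iff_map_eq_zero]
      intro v hv
      have : Additive.toMul v ∈ AddSubgroup.toSubgroup'
        (AddMonoidHom.ker (r : Additive V →+ Additive V)) := hv
      rw [h, mem_bot] at this
      exact this
    · refine absurd (AddMonoidHom.ext fun v => ?_) hr0
      have : Additive.toMul v ∈ AddSubgroup.toSubgroup'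
        (AddMonoidHom.ker (r : Additive V →+ Additive V)) := h ▸ mem_top _
      exact this
  have hcomm : IsMulCommutative R := Subring.isMulCommutative_closure hs
  obtain ⟨v₀, hv₀⟩ := exists_ne (0 : Additive V)
  have hnt : Nontrivial R :=
    ⟨⟨1, 0, fun h => hv₀ (DFunLike.congr_fun (congrArg Subtype.val h) v₀)⟩⟩
  have hnz : NoZeroDivisors R := ⟨fun {x y} h => by
    by_contra hne
    push Not at hne
    apply hne.2
    apply Subtype.ext
    refine AddMonoidHom.ext fun v => hinj x x.2 (fun h0 => hne.1 (Subtype.ext h0)) ?_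
    have := DFunLike.congr_fun (congrArg Subtype.val h) v
    exact this.trans (map_zero (x : AddMonoid.End (Additive V))).symm⟩
  let _ : CommRing R := { (inferInstance : Ring R) with mul_comm := hcomm.is_comm.comm }
  have hdom : IsDomain R := NoZeroDivisors.to_isDomain R
  have hfin : Finite (AddMonoid.End (Additive V)) :=
    Finite.of_injective (fun f : AddMonoid.End (Additive V) => (f : Additive V → Additive V))
      DFunLike.coe_injective
  have := Fact.mk hq
  have hq0 : (q : R) = 0 := by
    apply Subtype.ext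
    refine AddMonoidHom.ext fun v => ?_
    change ((q : AddMonoid.End (Additive V))) v = 0
    rw [AddMonoid.End.natCast_apply]
    exact hV (Additive.toMul v)
  have hchar : CharP R q := (CharP.charP_iff_prime_eq_zero hq).2 hq0
  have hfrob : ∀ r : R, r ^ q ^ e = r := by
    rintro ⟨r, hr⟩
    induction hr using Subring.closure_induction with
    | mem x hx =>
      obtain rfl : x = ψ σ := hx
      apply Subtype.ext
      change (ψ σ) ^ q ^ e = ψ σ
      rw [← map_pow, hσ]
    | zero => exact zero_pow (pow_pos hq.pos e).ne'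
    | one => exact one_pow _
    | add x y hx hy ihx ihy =>
      change ((⟨x, hx⟩ : R) + ⟨y, hy⟩) ^ q ^ e = ⟨x, hx⟩ + ⟨y, hy⟩
      rw [add_pow_char_pow, ihx, ihy]
    | neg x hx ihx =>
      change (-(⟨x, hx⟩ : R)) ^ q ^ e = -⟨x, hx⟩
      rw [← zero_sub, sub_pow_char_pow, ihx, zero_pow (pow_pos hq.pos e).ne']
    | mul x y hx hy ihx ihy =>
      change ((⟨x, hx⟩ : R) * ⟨y, hy⟩) ^ q ^ e = ⟨x, hx⟩ * ⟨y, hy⟩
      rw [mul_pow, ihx, ihy]
  have hqe : 1 < q ^ e := Nat.one_lt_pow he.ne' hq.one_lt
  have hcardR : Nat.card R ≤ q ^ e := by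
    have := Fintype.ofFinite R
    have hdeg : (Polynomial.X ^ q ^ e - Polynomial.X : Polynomial R).natDegree = q ^ e := by
      rw [Polynomial.natDegree_sub_eq_left_of_natDegree_lt] <;> simp [hqe]
    have hne : (Polynomial.X ^ q ^ e - Polynomial.X : Polynomial R) ≠ 0 := by
      intro h
      rw [h, Polynomial.natDegree_zero] at hdeg
      omega
    rw [Nat.card_eq_fintype_card, ← Finset.card_univ, ← hdeg]
    apply Polynomial.card_le_degree_of_subset_roots
    intro r _
    rw [Polynomial.mem_roots hne]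
    simp [hfrob r]
  refine le_trans ?_ hcardR
  let ev : R →+ Additive V :=
    { toFun := fun r => (r : AddMonoid.End (Additive V)) v₀
      map_zero' := rfl
      map_add' := fun _ _ => rfl }
  have hsurj : Function.Surjective ev := by
    rcases hirr (AddSubgroup.toSubgroup' ev.range) (by
      rintro u ⟨r, hr⟩
      refine ⟨⟨ψ σ, hσR⟩ * r, ?_⟩
      change ψ σ (ev r) = _
      rw [hr]
      rfl) with h | h
    · exfalso
      have : Additive.toMul v₀ ∈ AddSubgroup.toSubgroup' ev.range := ⟨1, rfl⟩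
      rw [h, mem_bot] at this
      exact hv₀ this
    · intro v
      have : Additive.toMul v ∈ AddSubgroup.toSubgroup' ev.range := h ▸ mem_top _
      exact this
  exact Nat.card_le_card_of_surjective ev hsurj

/-- An automorphism of prime order `p` acting irreducibly on an elementary abelian `q`-group `V`
forces `|V| = q ^ e` with `e` the order of `q` modulo `p`. -/
theorem card_eq_of_irreducible_aut {V : Type*} [CommGroup V] [Finite V] {p q : ℕ} (hp : p.Prime)
    (hq : q.Prime) (hpq : q ≠ p) (hV : ∀ v : V, v ^ q = 1) (σ : MulAut V) (hσ : orderOf σ = p)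
    (hirr : ∀ U : Subgroup V, (∀ u ∈ U, σ u ∈ U) → U = ⊥ ∨ U = ⊤) :
    Nat.card V = q ^ orderOf (q : ZMod p) := by
  have := Fact.mk hp
  have := Fact.mk hq
  have hq0 : (q : ZMod p) ≠ 0 := by
    rw [Ne, ZMod.natCast_eq_zero_iff]
    exact fun h => hpq ((Nat.prime_dvd_prime_iff_eq hp hq).1 h).symm
  have he : 0 < orderOf (q : ZMod p) :=
    (isOfFinOrder_iff_pow_eq_one.2 ⟨p - 1, Nat.sub_pos_of_lt hp.one_lt,
      ZMod.pow_card_sub_one_eq_one hq0⟩).orderOf_pos
  have hσ1 : σ ≠ 1 := by
    rintro rfl
    rw [orderOf_one] at hσ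
    exact hp.one_lt.ne hσ
  apply le_antisymm
  · refine card_le_of_irreducible_aut hq he hV σ ?_ hirr
    conv_rhs => rw [← pow_one σ]
    rw [pow_eq_pow_iff_modEq, hσ, ← ZMod.natCast_eq_natCast_iff, Nat.cast_pow, pow_orderOf_eq_one,
      Nat.cast_one]
  have hfrob : H9.IsFrobAction (zpowers σ).subtype := by
    rintro ⟨a, ha⟩ ha1 n hn
    have ha1' : a ≠ 1 := fun h => ha1 (Subtype.ext h)
    rcases hirr (MonoidHom.eqLocus (a : V →* V) (MonoidHom.id V)) (by
      intro u hu
      have h1 : a u = u := hu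
      obtain ⟨k, rfl⟩ := ha
      change (σ ^ k * σ) u = σ u
      rw [← zpow_add_one, add_comm, zpow_one_add]
      exact congrArg σ h1) with h | h
    · have : n ∈ MonoidHom.eqLocus (a : V →* V) (MonoidHom.id V) := hn
      rwa [h] at this
    · refine absurd (MulEquiv.ext fun v => ?_) ha1'
      have : v ∈ MonoidHom.eqLocus (a : V →* V) (MonoidHom.id V) := h ▸ mem_top v
      exact this
  have hdvd := hfrob.card_dvd
  rw [Nat.card_zpowers, hσ] at hdvd
  obtain ⟨d, hd⟩ := IsPGroup.iff_card.1 (fun v : V => ⟨1, by rw [pow_one]; exact hV v⟩ :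
    IsPGroup q V)
  have hd0 : 0 < d := by
    rcases Nat.eq_zero_or_pos d with rfl | h
    · rw [pow_zero, Nat.card_eq_one_iff_unique] at hd
      have := hd.1
      exact absurd (MulEquiv.ext fun v => Subsingleton.elim _ _) hσ1
    · exact h
  rw [hd] at hdvd ⊢
  refine Nat.pow_le_pow_right hq.pos (orderOf_le_of_pow_eq_one hd0 ?_)
  rw [← Nat.cast_pow, ← Nat.cast_one, ZMod.natCast_eq_natCast_iff]
  exact ((Nat.modEq_iff_dvd' (Nat.one_le_pow _ _ hq.pos)).2 hdvd).symm

/-- Ambient form: `g` normalizes the elementary abelian `q`-group `A`, acts nontrivially and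
irreducibly, and `g ^ p` centralizes `A`. -/
theorem card_eq_of_irreducible {G : Type*} [Group G] [Finite G] {p q : ℕ} (hp : p.Prime)
    (hq : q.Prime) (hpq : q ≠ p) {A : Subgroup G} (hA : IsElementaryAbelian q A) {g : G}
    (hg : g ∈ normalizer (A : Set G)) (hgp : g ^ p ∈ centralizer (A : Set G))
    (hgC : g ∉ centralizer (A : Set G))
    (hirr : ∀ U : Subgroup G, U ≤ A → (∀ u ∈ U, g * u * g⁻¹ ∈ U) → U = ⊥ ∨ U = A) :
    Nat.card A = q ^ orderOf (q : ZMod p) := by
  have := Fact.mk hp
  have := hA.1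
  let _ : CommGroup A := { (inferInstance : Group A) with mul_comm := hA.1.is_comm.comm }
  have hz : zpowers g ≤ normalizer (A : Set G) := zpowers_le.2 hg
  refine card_eq_of_irreducible_aut hp hq hpq (fun v => Subtype.ext (hA.2 v v.2))
    (H1.conjAut hz ⟨g, mem_zpowers g⟩) (orderOf_eq_prime ?_ ?_) ?_
  · rw [← map_pow]
    exact (H1.mem_ker_conjAut hz).2 hgp
  · exact fun h => hgC ((H1.mem_ker_conjAut hz (a := ⟨g, mem_zpowers g⟩)).1 h)
  · intro U hU
    rcases hirr (U.map A.subtype) (map_subtype_le _) (by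
      rintro _ ⟨u, hu, rfl⟩
      exact ⟨_, hU u hu, rfl⟩) with h | h
    · left
      exact (map_eq_bot_iff_of_injective _ (subtype_injective A)).1 h
    · right
      apply map_injective (subtype_injective A)
      rw [h, ← MonoidHom.range_eq_map, range_subtype]

end Cfsg.Agent.H2
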