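import Cfsg.Agent.H2.MaxClass
import Cfsg.Agent.H5.Quadratic

/-! `p`-groups of maximal class, II: uniform elements and `p`-th powers in abelian terms. -/

namespace Cfsg.Agent.H2

open Subgroup
open scoped commutatorElement

variable {G : Type*} [Group G]

/-- `x` lies outside `G'` and outside every (proper) two-step centralizer. -/
def Unif (x : G) : Prop := x ∉ lcs G 1 ∧ ∀ i, 1 ≤ i → lcs G (i + 1) ≠ ⊥ → x ∉ tsc G i

theorem Unif.map_equiv {H : Type*} [Group H] (e : G ≃* H) {x : G} (hx : Unif x) : Unif (e x) := by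
  have hk : (e : G →* H).ker = ⊥ := (MonoidHom.ker_eq_bot_iff _).2 e.injective
  refine ⟨fun h => hx.1 ((map_mem_lcs_iff (f := (e : G →* H)) e.surjective (hk ▸ bot_le)).1 h),
    fun i hi hne h => hx.2 i hi ?_
      ((map_mem_tsc_iff (f := (e : G →* H)) e.surjective (hk ▸ bot_le)).1 h)⟩
  intro h0
  apply hne
  rw [← map_lcs_of_surjective (f := (e : G →* H)) e.surjective, h0, Subgroup.map_bot]

theorem sum_add_one_pow {R : Type*} [Ring R] (t : R) (n : ℕ) :
    ∑ i ∈ Finset.range n, (t + 1) ^ i = ∑ i ∈ Finset.range n, (n.choose (i + 1) : R) * t ^ i := by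
  induction n with
  | zero => simp
  | succ n ih =>
    rw [Finset.sum_range_succ, ih, (Commute.one_right t).add_pow]
    simp only [Nat.choose_succ_succ' n, Nat.cast_add, add_mul, Finset.sum_add_distrib, one_pow,
      mul_one]
    rw [Finset.sum_range_succ (fun i => (n.choose (i + 1) : R) * t ^ i), Nat.choose_succ_self,
      Nat.cast_zero, zero_mul, add_zero, add_comm]
    congr 1
    exact Finset.sum_congr rfl fun i _ => (Nat.cast_commute _ _).symm.eq

theorem exists_commutator_eq_of_card_le [Finite G] {N : Subgroup G} {x : G}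
    (h : ∀ g : G, ⁅g, x⁆ ∈ N) (hc : Nat.card N ≤ (centralizer ({x} : Set G)).index) :
    ∀ y ∈ N, ∃ g : G, ⁅g, x⁆ = y := by
  let f : G ⧸ centralizer ({x} : Set G) → N := fun q => ⟨⁅q.out, x⁆, h _⟩
  have hf : Function.Injective f := by
    intro q r hqr
    have e : ⁅q.out, x⁆ = ⁅r.out, x⁆ := congrArg Subtype.val hqr
    rw [← QuotientGroup.out_eq' q, ← QuotientGroup.out_eq' r, QuotientGroup.eq,
      mem_centralizer_singleton_iff]
    simp only [commutatorElement_def, mul_left_inj] at e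
    calc q.out⁻¹ * r.out * x = q.out⁻¹ * (r.out * x * r.out⁻¹) * r.out := by group
      _ = x * (q.out⁻¹ * r.out) := by rw [← e]; group
  intro y hy
  obtain ⟨q, hq⟩ := (hf.bijective_of_nat_card_le hc).2 ⟨y, hy⟩
  exact ⟨q.out, congrArg Subtype.val hq⟩

namespace MaxClass

variable [Finite G] {p n : ℕ} [hp : Fact p.Prime]

theorem unif_iff (h : MaxClass p n G) {x : G} :
    Unif x ↔ x ∉ lcs G 1 ∧ ∀ i, 1 ≤ i → i + 3 ≤ n → x ∉ tsc G i := by
  simp only [Unif, h.lcs_ne_bot_iff]

theorem exists_level (h : MaxClass p n G) {j : ℕ} {u : G} (hu : u ∈ lcs G j) (hu1 : u ≠ 1) :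
    ∃ i, j ≤ i ∧ i + 2 ≤ n ∧ u ∈ lcs G i ∧ u ∉ lcs G (i + 1) := by
  classical
  have hex : ∃ k, u ∉ lcs G (j + k) := ⟨n, by rw [h.lcs_eq_bot (by omega)]; exact hu1⟩
  have h0 : Nat.find hex ≠ 0 := fun e => by
    have := Nat.find_spec hex
    rw [e] at this
    exact this hu
  obtain ⟨k, hk⟩ := Nat.exists_eq_succ_of_ne_zero h0
  have h1 : u ∈ lcs G (j + k) := not_not.1 (Nat.find_min hex (by omega))
  refine ⟨j + k, by omega, h.lcs_ne_bot_iff.1 fun e => hu1 (by rwa [e] at h1), h1, ?_⟩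
  have := Nat.find_spec hex
  rwa [hk] at this

theorem commutator_not_mem (h : MaxClass p n G) {s : G} (hs : Unif s) {i : ℕ} (hi : 1 ≤ i)
    (hin : i + 3 ≤ n) {u : G} (hu : u ∈ lcs G i) (hu' : u ∉ lcs G (i + 1)) :
    ⁅u, s⁆ ∉ lcs G (i + 2) := fun e =>
  (h.unif_iff.1 hs).2 i hi hin ((h.mem_tsc_iff hi hu hu').2 e)

theorem centralizer_inf_le (h : MaxClass p n G) {s : G} (hs : Unif s) :
    centralizer ({s} : Set G) ⊓ lcs G 1 ≤ center G := by
  rintro u ⟨hu, hu1⟩
  by_cases h1 : u = 1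
  · rw [h1]; exact one_mem _
  obtain ⟨i, hi, hin, hui, hui'⟩ := h.exists_level hu1 h1
  by_cases hin' : i + 3 ≤ n
  · refine absurd ?_ (h.commutator_not_mem hs hi hin' hui hui')
    rw [commutatorElement_eq_one_iff_mul_comm.2 (mem_centralizer_singleton_iff.1 hu)]
    exact one_mem _
  · rw [h.center_eq, show n - 2 = i by omega]; exact hui

theorem centralizer_ne_top (h : MaxClass p n G) {s : G} (hs : s ∉ lcs G 1) :
    centralizer ({s} : Set G) ≠ ⊤ := fun e =>
  hs (h.center_le_lcs_one (mem_center_iff.2 fun g =>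
    mem_centralizer_singleton_iff.1 (e ▸ mem_top g)))

theorem card_centralizer_le (h : MaxClass p n G) {s : G} (hs : Unif s) :
    Nat.card (centralizer ({s} : Set G)) ≤ p ^ 2 := by
  have h1 := H3.card_sup_mul_card_inf (centralizer ({s} : Set G)) (lcs G 1)
  have h2 := h.card_le_mul_of_ne_top (h.sup_lcs_one_ne_top (h.centralizer_ne_top hs.1))
  have h3 := card_le_of_le (h.centralizer_inf_le hs)
  rw [h.card_center] at h3
  have h4 := Nat.mul_le_mul h2 h3
  rw [h1, mul_right_comm, ← pow_two] at h4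
  exact Nat.le_of_mul_le_mul_right h4 Nat.card_pos

theorem card_centralizer_eq (h : MaxClass p n G) {s : G} (hs : Unif s) :
    Nat.card (centralizer ({s} : Set G)) = p ^ 2 := by
  refine le_antisymm (h.card_centralizer_le hs) ?_
  have h1 : center G < centralizer ({s} : Set G) := lt_of_le_of_ne (center_le_centralizer _)
    fun e => hs.1 (h.center_le_lcs_one (e ▸ mem_centralizer_singleton_iff.2 rfl))
  have := mul_card_le_of_lt (h.isPGroup.to_subgroup _) h1
  rwa [h.card_center, ← pow_two] at this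

theorem exists_conj_eq (h : MaxClass p n G) {s : G} (hs : Unif s) {u : G} (hu : u ∈ lcs G 1) :
    ∃ g : G, g * s * g⁻¹ = u * s := by
  obtain ⟨g, hg⟩ := exists_commutator_eq_of_card_le (N := lcs G 1) (x := s)
    (fun g => commutator_mem_lcs_one g s) (by
      have h1 := (centralizer ({s} : Set G)).index_mul_card
      rw [h.card_centralizer_eq hs, ← (lcs G 1).index_mul_card, h.index_lcs_one, mul_comm] at h1
      exact (Nat.eq_of_mul_eq_mul_left (pow_pos hp.out.pos 2) h1).ge) u hu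
  exact ⟨g, by rw [← hg, commutatorElement_def]; group⟩

theorem pow_mem_center (h : MaxClass p n G) {s : G} (hs : Unif s) : s ^ p ∈ center G :=
  h.centralizer_inf_le hs ⟨mem_centralizer_singleton_iff.2 (Commute.self_pow s p).symm.eq,
    h.pow_mem_lcs_one s⟩

theorem mul_pow_eq (h : MaxClass p n G) {s : G} (hs : Unif s) {u : G} (hu : u ∈ lcs G 1) :
    (u * s) ^ p = s ^ p := by
  obtain ⟨g, hg⟩ := h.exists_conj_eq hs hu
  rw [← hg, conj_pow, mem_center_iff.1 (h.pow_mem_center hs) g, mul_inv_cancel_right]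

/-- A subgroup stable under commutation with a uniform element and meeting `γ_{i+1} \ γ_{i+2}`
contains `γ_{i+1}`. -/
theorem lcs_le_of_stable (h : MaxClass p n G) {s : G} (hs : Unif s) {U : Subgroup G}
    (hU : ∀ u ∈ U, ⁅u, s⁆ ∈ U) {i : ℕ} (hi : 1 ≤ i) {u : G} (huU : u ∈ U) (hu : u ∈ lcs G i)
    (hu' : u ∉ lcs G (i + 1)) : lcs G i ≤ U := by
  have key : ∀ k i, 1 ≤ i → n ≤ i + k → ∀ u ∈ U, u ∈ lcs G i → u ∉ lcs G (i + 1) →
      lcs G i ≤ U := by
    intro k
    induction k with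
    | zero =>
      intro i _ hin _ _ _ _
      rw [h.lcs_eq_bot (by omega)]; exact bot_le
    | succ k ih =>
      intro i hi hin u huU hu hu'
      rw [← h.sup_zpowers_eq hi hu hu']
      refine sup_le ?_ (zpowers_le.2 huU)
      by_cases hin' : i + 3 ≤ n
      · exact ih (i + 1) (by omega) (by omega) _ (hU u huU) (commutator_mem_lcs_succ hu s)
          (h.commutator_not_mem hs hi hin' hu hu')
      · rw [h.lcs_eq_bot (by omega)]; exact bot_le
  exact key n i hi (by omega) u huU hu hu'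

theorem unif_of_mem (h : MaxClass p n G) {s : G} (hs : Unif s) {D : Subgroup G} (hD : D ≠ ⊤)
    (hsD : s ∈ D) {y : G} (hy : y ∈ D) (hy' : y ∉ lcs G 1) : Unif y := by
  refine ⟨hy', fun i hi hne hyi => hs.2 i hi hne ?_⟩
  have h1 := h.sup_zpowers_eq_of_ne_top (h.sup_lcs_one_ne_top hD) le_sup_right (mem_sup_left hy) hy'
  have h2 : lcs G 1 ⊔ zpowers y ≤ tsc G i := sup_le (lcs_one_le_tsc i) (zpowers_le.2 hyi)
  exact h2 (h1 ▸ mem_sup_left hsD)

section powers

open scoped IsMulCommutative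

variable {s : G} {j : ℕ} [IsMulCommutative (lcs G j)]

theorem end_mul_apply {A : Type*} [AddCommGroup A] (f g : AddMonoid.End A) (v : A) :
    (f * g) v = f (g v) := rfl

theorem end_add_apply {A : Type*} [AddCommGroup A] (f g : AddMonoid.End A) (v : A) :
    (f + g) v = f v + g v := rfl

theorem tau_apply (s : G) (v : Additive (lcs G j)) :
    ((((H5.conjEnd (lcs G j) s - 1) v).toMul : lcs G j) : G) = ⁅s, (v.toMul : G)⁆ := by
  have e : (H5.conjEnd (lcs G j) s - 1) v = H5.conjEnd (lcs G j) s v - v :=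
    AddMonoidHom.sub_apply _ _ _
  rw [e, sub_eq_add_neg, toMul_add, toMul_neg, coe_mul, coe_inv, H5.conjEnd_apply,
    commutatorElement_def]

theorem tau_pow_mem (s : G) (k : ℕ) {i : ℕ} (v : Additive (lcs G j))
    (hv : (v.toMul : G) ∈ lcs G i) :
    (((((H5.conjEnd (lcs G j) s - 1) ^ k) v).toMul : lcs G j) : G) ∈ lcs G (i + k) := by
  induction k with
  | zero => exact hv
  | succ k ih =>
    rw [pow_succ', end_mul_apply, tau_apply]
    exact commutator_mem_lcs_succ' ih s

theorem tau_pow_not_mem (h : MaxClass p n G) (hs : Unif s) (k : ℕ) {i : ℕ} (hi : 1 ≤ i)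
    (hin : i + k + 2 ≤ n) (v : Additive (lcs G j)) (hv : (v.toMul : G) ∈ lcs G i)
    (hv' : (v.toMul : G) ∉ lcs G (i + 1)) :
    (((((H5.conjEnd (lcs G j) s - 1) ^ k) v).toMul : lcs G j) : G) ∉ lcs G (i + k + 1) := by
  induction k with
  | zero => exact hv'
  | succ k ih =>
    rw [pow_succ', end_mul_apply, tau_apply, ← inv_mem_iff, commutatorElement_inv]
    exact h.commutator_not_mem hs (i := i + k) (by omega) (by omega) (tau_pow_mem s k v hv)
      (ih (by omega))

/-- The norm relation on an abelian term of the lower central series. -/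
theorem exists_pow_eq_tau (h : MaxClass p n G) (hs : Unif s) (hj : 1 ≤ j) {i : ℕ}
    (v : Additive (lcs G j)) (hv : (v.toMul : G) ∈ lcs G i) :
    ∃ w ∈ lcs G j, w ∈ lcs G (i + 1) ∧ ((v.toMul : G) * w) ^ p =
      (((((H5.conjEnd (lcs G j) s - 1) ^ (p - 1)) v).toMul : lcs G j) : G)⁻¹ := by
  set t := H5.conjEnd (lcs G j) s - 1 with ht
  have h1 := H5.sum_conjEnd_pow_apply (lcs G j) s p v
  rw [h.mul_pow_eq hs (lcs_anti hj (v.toMul).2), mul_inv_cancel,
    show H5.conjEnd (lcs G j) s = t + 1 by rw [ht, sub_add_cancel], sum_add_one_pow] at h1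
  obtain ⟨q, hq⟩ : ∃ q, p = q + 2 := ⟨p - 2, by have := hp.out.two_le; omega⟩
  let W : AddMonoid.End (Additive (lcs G j)) :=
    ∑ k ∈ Finset.range q, ((p.choose (k + 2) / p : ℕ) : AddMonoid.End _) * t ^ (k + 1)
  have h2 : ∑ i ∈ Finset.range p, (p.choose (i + 1) : AddMonoid.End (Additive (lcs G j))) * t ^ i =
      (p : AddMonoid.End _) * (1 + W) + t ^ (p - 1) := by
    have e1 : Finset.range p = Finset.range (q + 1 + 1) := by rw [hq]
    rw [e1, Finset.sum_range_succ, Finset.sum_range_succ', show q + 1 + 1 = p by omega,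
      Nat.choose_self, Nat.cast_one, one_mul, show q + 1 = p - 1 by omega, zero_add,
      Nat.choose_one_right, pow_zero, add_comm (1 : AddMonoid.End _) W, mul_add, Finset.mul_sum]
    congr 2
    refine Finset.sum_congr rfl fun k hk => ?_
    rw [Finset.mem_range] at hk
    rw [← mul_assoc, ← Nat.cast_mul,
      Nat.mul_div_cancel' (hp.out.dvd_choose_self (by omega) (by omega))]
  rw [h2, end_add_apply, toMul_add, coe_mul, mul_eq_one_iff_eq_inv,
    end_mul_apply, H5.natCast_end_apply, end_add_apply, toMul_add,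
    coe_mul] at h1
  refine ⟨((W v).toMul : G), ((W v).toMul).2, ?_, h1⟩
  let F : AddSubgroup (Additive (lcs G j)) :=
    Subgroup.toAddSubgroup ((lcs G (i + 1)).subgroupOf (lcs G j))
  change W v ∈ F
  have e : W v = ∑ k ∈ Finset.range q,
      (((p.choose (k + 2) / p : ℕ) : AddMonoid.End (Additive (lcs G j))) * t ^ (k + 1) :
        AddMonoid.End (Additive (lcs G j))) v :=
    AddMonoidHom.finsetSum_apply _ _ _
  rw [e]
  refine sum_mem fun k _ => ?_
  rw [end_mul_apply, AddMonoid.End.natCast_apply]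
  have h3 : (t ^ (k + 1)) v ∈ F :=
    lcs_anti (by omega : i + 1 ≤ i + (k + 1)) (tau_pow_mem s (k + 1) v hv)
  exact nsmul_mem h3 _

theorem pow_mem_lcs (h : MaxClass p n G) (hs : Unif s) (hj : 1 ≤ j) {i : ℕ} (hji : j ≤ i)
    {u : G} (hu : u ∈ lcs G i) : u ^ p ∈ lcs G (i + (p - 1)) := by
  have key : ∀ k i, j ≤ i → n ≤ i + k → ∀ u ∈ lcs G i, u ^ p ∈ lcs G (i + (p - 1)) := by
    intro k
    induction k with
    | zero =>
      intro i _ hin u hu
      rw [h.lcs_eq_bot (by omega), mem_bot] at hu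
      rw [hu, one_pow]; exact one_mem _
    | succ k ih =>
      intro i hji hin u hu
      have huj : u ∈ lcs G j := lcs_anti hji hu
      obtain ⟨w, hwj, hw, he⟩ := h.exists_pow_eq_tau hs hj (i := i) (Additive.ofMul ⟨u, huj⟩) hu
      have h1 : (u * w) ^ p ∈ lcs G (i + (p - 1)) := by
        have := inv_mem (tau_pow_mem s (p - 1) (Additive.ofMul (⟨u, huj⟩ : lcs G j)) hu)
        rw [← he] at this
        exact this
      have hc : Commute u w :=
        congrArg Subtype.val (mul_comm' (⟨u, huj⟩ : lcs G j) ⟨w, hwj⟩)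
      rw [hc.mul_pow] at h1
      exact (mul_mem_cancel_right (lcs_anti (by omega) (ih (i + 1) (by omega) (by omega) w hw))).1 h1
  exact key n i hji (by omega) u hu

theorem exists_pow_not_mem (h : MaxClass p n G) (hs : Unif s) (hj : 1 ≤ j) {i : ℕ} (hji : j ≤ i)
    (hin : i + (p - 1) + 2 ≤ n) : ∃ u ∈ lcs G i, u ^ p ∉ lcs G (i + (p - 1) + 1) := by
  obtain ⟨u, hu, hu'⟩ := h.exists_mem_not_mem (i := i) (by omega)
  have huj : u ∈ lcs G j := lcs_anti hji hu
  obtain ⟨w, -, hw, he⟩ := h.exists_pow_eq_tau hs hj (i := i) (Additive.ofMul ⟨u, huj⟩) hu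
  refine ⟨u * w, mul_mem hu (lcs_anti (Nat.le_succ i) hw), fun e => ?_⟩
  refine h.tau_pow_not_mem hs (p - 1) (by omega) hin (Additive.ofMul (⟨u, huj⟩ : lcs G j)) hu hu' ?_
  rw [← inv_mem_iff, ← he]
  exact e

/-- In the abelian range the two-step centralizers are periodic. -/
theorem tsc_le_tsc_add (h : MaxClass p n G) (hs : Unif s) (hj : 1 ≤ j) {i : ℕ} (hji : j ≤ i)
    (hin : i + (p - 1) + 2 ≤ n) : tsc G i ≤ tsc G (i + (p - 1)) := by
  obtain ⟨u, hu, hu'⟩ := h.exists_pow_not_mem hs hj hji hin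
  intro y hy
  rw [h.mem_tsc_iff (by omega) (h.pow_mem_lcs hs hj hji hu) hu']
  have h1 : ⁅u, y⁆ ∈ lcs G (i + 2) := mem_tsc.1 hy u hu
  have huj : u ∈ lcs G j := lcs_anti hji hu
  have hc : Commute u (y * u⁻¹ * y⁻¹) := congrArg Subtype.val (mul_comm' (⟨u, huj⟩ : lcs G j)
    ⟨_, (inferInstance : (lcs G j).Normal).conj_mem _ (inv_mem huj) y⟩)
  have e : ⁅u ^ p, y⁆ = ⁅u, y⁆ ^ p := by
    have e1 : ⁅u, y⁆ = u * (y * u⁻¹ * y⁻¹) := by rw [commutatorElement_def]; group
    rw [e1, hc.mul_pow, conj_pow, commutatorElement_def]; group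
  rw [e, show i + (p - 1) + 2 = i + 2 + (p - 1) by omega]
  exact h.pow_mem_lcs hs hj (by omega) h1

end powers

theorem isMulCommutative_lcs (h : MaxClass p n G) {j : ℕ} (hj : 1 ≤ j) (hn : n ≤ 2 * j + 3) :
    IsMulCommutative (lcs G j) := by
  by_cases h0 : lcs G j = ⊥
  · rw [h0]; infer_instance
  obtain ⟨u, hu, hu'⟩ := h.exists_mem_not_mem (h.lcs_ne_bot_iff.1 h0)
  have hc : ∀ a ∈ lcs G j, ∀ b ∈ lcs G (j + 1), a * b = b * a := fun a ha b hb => by
    have := commutator_mem_lcs ha hb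
    rwa [h.lcs_eq_bot (by omega), mem_bot, commutatorElement_eq_one_iff_mul_comm] at this
  rw [← h.sup_zpowers_eq hj hu hu']
  exact H3.isMulCommutative_sup_zpowers
    ⟨⟨fun a b => Subtype.ext (hc a (lcs_anti (Nat.le_succ j) a.2) b b.2)⟩⟩
    fun b hb => (hc u hu b hb).symm

end MaxClass

end Cfsg.Agent.H2
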