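import Cfsg.Agent.H2.MaxClass2

/-! `p`-groups of maximal class, III: Blackburn's theorem on two-step centralizers and the
existence of uniform elements. -/

namespace Cfsg.Agent.H2

open Subgroup
open scoped commutatorElement

variable {G : Type*} [Group G]

theorem jacobi_aux {Q : Type*} [Group Q] {a b s : Q} (hu : ⁅⁅a, s⁆, b⁆ ∈ center Q)
    (hv : ⁅a, ⁅b, s⁆⁆ ∈ center Q) (h1 : Commute ⁅a, s⁆ ⁅b, s⁆) (h2 : Commute ⁅a, s⁆ ⁅a, b⁆)
    (h3 : Commute ⁅b, s⁆ ⁅a, b⁆) : ⁅⁅a, b⁆, s⁆ = ⁅⁅a, s⁆, b⁆ * ⁅a, ⁅b, s⁆⁆ := by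
  have ha : s * a * s⁻¹ = ⁅a, s⁆⁻¹ * a := by rw [commutatorElement_def]; group
  have hb : s * b * s⁻¹ = ⁅b, s⁆⁻¹ * b := by rw [commutatorElement_def]; group
  have hc : ⁅⁅a, b⁆, s⁆ = ⁅a, b⁆ * ⁅s * a * s⁻¹, s * b * s⁻¹⁆⁻¹ := by
    simp only [commutatorElement_def]; group
  have e1 : ⁅⁅a, s⁆, b⁆ * b * ⁅a, s⁆ = ⁅a, s⁆ * b := by
    rw [commutatorElement_def ⁅a, s⁆]; group
  have e2 : ⁅a, ⁅b, s⁆⁆ * ⁅b, s⁆ * a = a * ⁅b, s⁆ := by
    rw [commutatorElement_def a ⁅b, s⁆]; group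
  have e3 : a * b = ⁅a, b⁆ * b * a := by rw [commutatorElement_def]; group
  rw [hc, ha, hb]
  generalize ⁅⁅a, s⁆, b⁆ = u at *
  generalize ⁅a, ⁅b, s⁆⁆ = v at *
  generalize ⁅a, s⁆ = a' at *
  generalize ⁅b, s⁆ = b' at *
  generalize ⁅a, b⁆ = c at *
  have hu' := mem_center_iff.1 hu
  have hv' := mem_center_iff.1 hv
  have f1 : a'⁻¹ * b = u⁻¹ * (b * a'⁻¹) := by
    rw [eq_inv_mul_iff_mul_eq, ← hu']
    calc a'⁻¹ * b * u = a'⁻¹ * (u * b * a') * a'⁻¹ := by rw [mul_assoc, hu' b]; group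
      _ = _ := by rw [e1]; group
  have f2 : a * b'⁻¹ = v⁻¹ * (b'⁻¹ * a) := by
    rw [eq_inv_mul_iff_mul_eq]
    calc v * (a * b'⁻¹) = b'⁻¹ * (b' * v) * a * b'⁻¹ := by group
      _ = b'⁻¹ * (v * b' * a) * b'⁻¹ := by rw [hv' b']; group
      _ = _ := by rw [e2]; group
  have f3 : (a'⁻¹ * a) * (b'⁻¹ * b) = v⁻¹ * u⁻¹ * c * ((b'⁻¹ * b) * (a'⁻¹ * a)) := by
    have g1 := mem_center_iff.1 (inv_mem hv)
    have g2 := mem_center_iff.1 (inv_mem hu)
    calc (a'⁻¹ * a) * (b'⁻¹ * b) = a'⁻¹ * (a * b'⁻¹) * b := by group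
      _ = (a'⁻¹ * v⁻¹) * b'⁻¹ * (a * b) := by rw [f2]; group
      _ = v⁻¹ * (a'⁻¹ * b'⁻¹) * c * b * a := by rw [g1, e3]; group
      _ = v⁻¹ * b'⁻¹ * (a'⁻¹ * c) * b * a := by rw [h1.inv_inv.eq]; group
      _ = v⁻¹ * (b'⁻¹ * c) * (a'⁻¹ * b) * a := by rw [h2.inv_left.eq]; group
      _ = v⁻¹ * (c * b'⁻¹ * u⁻¹) * (b * a'⁻¹) * a := by rw [h3.inv_left.eq, f1]; group
      _ = _ := by rw [g2]; group
  have f4 : ⁅a'⁻¹ * a, b'⁻¹ * b⁆ = v⁻¹ * u⁻¹ * c := by
    rw [commutatorElement_def, f3]; group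
  rw [f4]
  calc c * (v⁻¹ * u⁻¹ * c)⁻¹ = u * v := by group
    _ = _ := rfl

/-- Jacobi identity modulo `γ_{i+j+4}`. -/
theorem jacobi_lcs {i j : ℕ} {a b : G} (ha : a ∈ lcs G i) (hb : b ∈ lcs G j) (s : G) :
    QuotientGroup.mk' (lcs G (i + j + 3)) ⁅⁅a, b⁆, s⁆ =
      QuotientGroup.mk' (lcs G (i + j + 3)) ⁅⁅a, s⁆, b⁆ *
        QuotientGroup.mk' (lcs G (i + j + 3)) ⁅a, ⁅b, s⁆⁆ := by
  set π := QuotientGroup.mk' (lcs G (i + j + 3))
  have hz : ∀ x ∈ lcs G (i + j + 2), π x ∈ center _ := fun x hx => by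
    rw [mem_center_iff]
    intro g
    obtain ⟨g, rfl⟩ := QuotientGroup.mk'_surjective _ g
    exact ((H7.commutatorElement_mem_iff_commute _ _ _).1 (commutator_mem_lcs_succ' hx g)).eq
  have hc : ∀ {k l : ℕ} {x y : G}, x ∈ lcs G k → y ∈ lcs G l → i + j + 2 ≤ k + l →
      Commute (π x) (π y) := fun hx hy h =>
    (H7.commutatorElement_mem_iff_commute _ _ _).1 (lcs_anti (by omega) (commutator_mem_lcs hx hy))
  have ha' := commutator_mem_lcs_succ ha s
  have hb' := commutator_mem_lcs_succ hb s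
  have hab := commutator_mem_lcs ha hb
  have h1 := hz _ (lcs_anti (by omega) (commutator_mem_lcs ha' hb))
  have h2 := hz _ (lcs_anti (by omega) (commutator_mem_lcs ha hb'))
  have h3 := hc ha' hb' (by omega)
  have h4 := hc ha' hab (by omega)
  have h5 := hc hb' hab (by omega)
  simp only [map_commutatorElement] at h1 h2 h3 h4 h5 ⊢
  exact jacobi_aux h1 h2 h3 h4 h5

/-- The series `G₁ > G₂ > ⋯` of a group of maximal class: `mcs G i = G_{i+1}`. -/
def mcs (G : Type*) [Group G] : ℕ → Subgroup G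
  | 0 => tsc G 1
  | i + 1 => lcs G (i + 1)

instance mcs_normal (i : ℕ) : (mcs G i).Normal := by
  cases i <;> unfold mcs <;> infer_instance

theorem mcs_le_lcs (i : ℕ) : mcs G i ≤ lcs G i := by
  cases i
  · exact le_top
  · exact le_rfl

theorem mcs_of_pos {i : ℕ} (hi : 1 ≤ i) : mcs G i = lcs G i := by
  cases i
  · omega
  · rfl

theorem mcs_succ_le (i : ℕ) : mcs G (i + 1) ≤ mcs G i := by
  cases i
  · exact lcs_one_le_tsc 1
  · exact lcs_anti (Nat.le_succ _)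

/-- `⁅G_{i+1}, G_{j+1}⁆ ≤ G_{i+j+3}` -/
def McT (G : Type*) [Group G] (i j : ℕ) : Prop := ⁅mcs G i, mcs G j⁆ ≤ lcs G (i + j + 2)

theorem McT.symm {i j : ℕ} (h : McT G i j) : McT G j i := by
  unfold McT at h ⊢
  rwa [commutator_comm, add_comm j i]

theorem mcT_zero_iff {i : ℕ} (hi : 1 ≤ i) : McT G i 0 ↔ tsc G 1 ≤ tsc G i := by
  rw [le_tsc_iff, McT, mcs_of_pos hi]; rfl

namespace MaxClass

variable [Finite G] {p n : ℕ} [hp : Fact p.Prime]

theorem mcs_succ_le_commutator (h : MaxClass p n G) (hn : 4 ≤ n) (i : ℕ) :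
    mcs G (i + 1) ≤ ⁅mcs G i, ⊤⁆ := by
  cases i
  swap
  · exact le_rfl
  have hc := h.isCoatom_tsc (i := 1) le_rfl hn
  obtain ⟨s, -, hs⟩ := SetLike.exists_of_lt hc.lt_top
  have htop : tsc G 1 ⊔ zpowers s = ⊤ := hc.2 _ (lt_of_le_of_ne le_sup_left fun e =>
    hs (e ▸ mem_sup_right (mem_zpowers s)))
  change ⁅(⊤ : Subgroup G), ⊤⁆ ≤ ⁅tsc G 1, ⊤⁆
  conv_lhs => rw [← htop]
  refine H7.commutator_sup_left_le _ _ _ _ (commutator_mono le_rfl le_top)
    (H7.commutator_sup_right_le _ _ _ _ ?_ ?_)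
  · rw [commutator_comm]; exact commutator_mono le_rfl le_top
  · rw [commutator_eq_bot_iff_le_centralizer.2 (le_centralizer _)]; exact bot_le

theorem exists_mcs_eq (h : MaxClass p n G) (hn : 4 ≤ n) (i : ℕ) :
    ∃ u, mcs G (i + 1) ⊔ zpowers u = mcs G i := by
  have := h.isPGroup.isNilpotent
  cases i with
  | zero =>
    by_cases h0 : tsc G 1 ≤ lcs G 1
    · exact ⟨1, by rw [zpowers_one_eq_bot, sup_bot_eq]; exact le_antisymm (lcs_one_le_tsc 1) h0⟩
    obtain ⟨u, hu, hu'⟩ := SetLike.not_le_iff_exists.1 h0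
    exact ⟨u, h.sup_zpowers_eq_of_ne_top (tsc_ne_top (h.lcs_ne_bot hn)) (lcs_one_le_tsc 1) hu hu'⟩
  | succ i =>
    by_cases h0 : lcs G (i + 1) ≤ lcs G (i + 1 + 1)
    · exact ⟨1, by
        rw [zpowers_one_eq_bot, sup_bot_eq]; exact le_antisymm (lcs_anti (Nat.le_succ _)) h0⟩
    obtain ⟨u, hu, hu'⟩ := SetLike.not_le_iff_exists.1 h0
    exact ⟨u, h.sup_zpowers_eq (by omega) hu hu'⟩

theorem mcT_self (h : MaxClass p n G) (hn : 4 ≤ n) (i : ℕ) : McT G i i := by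
  obtain ⟨u, hu⟩ := h.exists_mcs_eq hn i
  have h1 : ⁅mcs G (i + 1), mcs G i⁆ ≤ lcs G (i + i + 2) :=
    (commutator_mono (mcs_le_lcs _) (mcs_le_lcs _)).trans
      ((H7.commutator_top_lcs_le _ _).trans (lcs_anti (by omega)))
  unfold McT
  conv_lhs => rw [← hu]
  refine H7.commutator_sup_left_le _ _ _ _ (by rwa [hu]) (H7.commutator_sup_right_le _ _ _ _ ?_ ?_)
  · rw [commutator_comm]
    exact (commutator_mono le_rfl (le_sup_right.trans hu.le)).trans h1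
  · rw [commutator_eq_bot_iff_le_centralizer.2 (le_centralizer _)]; exact bot_le

theorem mcT_step (h : MaxClass p n G) (hn : 4 ≤ n) {i j : ℕ} (h1 : McT G i j)
    (h2 : McT G (i + 1) j) : McT G i (j + 1) := by
  unfold McT at h1 h2 ⊢
  rw [commutator_comm]
  refine (commutator_mono (h.mcs_succ_le_commutator hn j) le_rfl).trans
    (H7.three_subgroups _ _ _ _ ?_ ?_)
  · refine (commutator_mono ?_ le_rfl).trans (h2.trans (lcs_anti (by omega)))
    rw [commutator_comm]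
    exact commutator_mono (mcs_le_lcs i) le_rfl
  · exact (commutator_mono h1 le_rfl).trans (lcs_anti (by omega) : lcs G (i + j + 2 + 1) ≤ _)

theorem mcT_of_lt (h : MaxClass p n G) (hn : 4 ≤ n) {ρ : ℕ}
    (hρ : ∀ i, 1 ≤ i → i < ρ → tsc G 1 ≤ tsc G i) {i j : ℕ} (hij : i + j < ρ) : McT G i j := by
  have key : ∀ w, w < ρ → ∀ j i, i + j = w → McT G i j := by
    intro w
    induction w with
    | zero =>
      intro _ j i hij
      obtain rfl : i = 0 := by omega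
      obtain rfl : j = 0 := by omega
      exact h.mcT_self hn 0
    | succ w ih =>
      intro hw j
      induction j with
      | zero =>
        intro i hi
        exact (mcT_zero_iff (by omega)).2 (hρ i (by omega) (by omega))
      | succ j ihj =>
        intro i hi
        exact h.mcT_step hn (ih (by omega) j i (by omega)) (ihj (i + 1) (by omega))
  exact key _ hij j i rfl

theorem not_mcT (h : MaxClass p n G) (hn : 4 ≤ n) {ρ : ℕ} (hρ1 : 1 ≤ ρ)
    (hρ : ∀ i, 1 ≤ i → i < ρ → tsc G 1 ≤ tsc G i) (hne : ¬ tsc G 1 ≤ tsc G ρ) {i j : ℕ}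
    (hij : i + j = ρ) : ¬ McT G i j := by
  induction j generalizing i with
  | zero =>
    obtain rfl : i = ρ := by omega
    exact fun e => hne ((mcT_zero_iff hρ1).1 e)
  | succ j ih =>
    intro e
    exact ih (i := i + 1) (by omega)
      (h.mcT_step hn (h.mcT_of_lt hn hρ (i := j) (j := i) (by omega)) e.symm).symm

theorem four_le_of_not_le (h : MaxClass p n G) {ρ : ℕ} (hρ1 : 1 ≤ ρ)
    (hne : ¬ tsc G 1 ≤ tsc G ρ) : ρ + 3 ≤ n ∧ 4 ≤ n := by
  have : ρ + 3 ≤ n := by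
    by_contra hlt
    apply hne
    rw [le_tsc_iff]
    refine (commutator_mono le_rfl le_top).trans ?_
    rw [← lcs_succ, h.lcs_eq_bot (by omega)]
    exact bot_le
  omega

theorem odd_of_first (h : MaxClass p n G) {ρ : ℕ} (hρ1 : 1 ≤ ρ)
    (hρ : ∀ i, 1 ≤ i → i < ρ → tsc G 1 ≤ tsc G i) (hne : ¬ tsc G 1 ≤ tsc G ρ) :
    ∃ k, 2 ≤ k ∧ ρ + 1 = 2 * k := by
  have hn := (h.four_le_of_not_le hρ1 hne).2
  rcases Nat.even_or_odd' ρ with ⟨k, hk | hk⟩
  · exact absurd (h.mcT_self hn k) (h.not_mcT hn hρ1 hρ hne (by omega))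
  · refine ⟨k + 1, ?_, by omega⟩
    by_contra hk0
    obtain rfl : ρ = 1 := by omega
    exact hne le_rfl

theorem le_tsc_succ_of_first (h : MaxClass p n G) {ρ : ℕ} (hρ1 : 1 ≤ ρ)
    (hρ : ∀ i, 1 ≤ i → i < ρ → tsc G 1 ≤ tsc G i) (hne : ¬ tsc G 1 ≤ tsc G ρ) :
    tsc G 1 ≤ tsc G (ρ + 1) := by
  have hn := (h.four_le_of_not_le hρ1 hne).2
  obtain ⟨k, hk2, hk⟩ := h.odd_of_first hρ1 hρ hne
  obtain ⟨σ, rfl⟩ : ∃ σ, ρ = σ + 1 := ⟨ρ - 1, by omega⟩
  have h1 : ⁅lcs G 1, lcs G σ⁆ = lcs G (σ + 1 + 1) := by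
    refine h.eq_lcs_of_le_of_not_le (by omega) _
      ((H7.commutator_top_lcs_le _ _).trans (lcs_anti (by omega))) fun e => ?_
    refine h.not_mcT hn hρ1 hρ hne (i := 1) (j := σ) (by omega) ?_
    unfold McT
    rw [mcs_of_pos (i := σ) (by omega), show 1 + σ + 2 = σ + 1 + 1 + 1 by omega]
    exact e
  rw [le_tsc_iff, ← h1]
  refine H7.three_subgroups _ _ _ _ ?_ ?_
  · refine (commutator_mono (le_tsc_iff.1 (hρ σ (by omega) (by omega))) le_rfl).trans ?_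
    exact (H7.commutator_top_lcs_le _ _).trans (lcs_anti (by omega))
  · rw [commutator_comm (tsc G 1)]
    refine (commutator_mono (le_tsc_iff.1 le_rfl) le_rfl).trans ?_
    exact (H7.commutator_top_lcs_le _ _).trans (lcs_anti (by omega))

theorem dvd_of_first (h : MaxClass p n G) {ρ k : ℕ} (hρ1 : 1 ≤ ρ)
    (hρ : ∀ i, 1 ≤ i → i < ρ → tsc G 1 ≤ tsc G i) (hne : ¬ tsc G 1 ≤ tsc G ρ)
    (hρn : ρ + 4 ≤ n) (hk : ρ + 1 = 2 * k) : p ∣ k := by
  have := h.isPGroup.isNilpotent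
  have hn : 4 ≤ n := by omega
  have hc1 := h.isCoatom_tsc (i := 1) le_rfl hn
  have heq : ∀ i, 1 ≤ i → i ≤ ρ + 1 → tsc G 1 ≤ tsc G i → tsc G i = tsc G 1 := fun i _ hi e =>
    (hc1.le_iff.1 e).resolve_left (tsc_ne_top (h.lcs_ne_bot (by omega)))
  obtain ⟨s, hs1, hsρ⟩ := exists_not_mem_two (tsc G 1) (tsc G ρ) h.isPGroup hc1.1
    (tsc_ne_top (h.lcs_ne_bot (by omega)))
  have hs : ∀ i, 1 ≤ i → i ≤ ρ + 1 → s ∉ tsc G i := by
    intro i hi hi'
    rcases Nat.lt_trichotomy i ρ with h1 | rfl | h1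
    · rw [heq i hi hi' (hρ i hi h1)]; exact hs1
    · exact hsρ
    · obtain rfl : i = ρ + 1 := by omega
      rw [heq _ hi hi' (h.le_tsc_succ_of_first hρ1 hρ hne)]; exact hs1
  obtain ⟨y, hy1, hyρ⟩ := SetLike.not_le_iff_exists.1 hne
  have hy0 : y ∉ lcs G 1 := fun e => hyρ (lcs_one_le_tsc ρ e)
  let a : ℕ → G := fun i => Nat.rec y (fun _ x => ⁅x, s⁆) i
  have ha0 : a 0 = y := rfl
  have has : ∀ i, a (i + 1) = ⁅a i, s⁆ := fun _ => rfl
  have ham : ∀ i, a i ∈ mcs G i := by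
    intro i
    cases i with
    | zero => exact hy1
    | succ i =>
      induction i with
      | zero => exact commutator_mem_lcs_one _ _
      | succ i ih => exact commutator_mem_lcs_succ ih s
  have hal : ∀ i, a i ∈ lcs G i := fun i => mcs_le_lcs i (ham i)
  have han : ∀ i, i ≤ ρ → a i ∉ lcs G (i + 1) := by
    intro i
    induction i with
    | zero => exact fun _ => hy0
    | succ i ih =>
      intro hi
      rcases Nat.eq_zero_or_pos i with rfl | hi0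
      · intro e
        have h1 : tsc G 1 ≤ cmod (lcs G 2) s := by
          rw [← h.sup_zpowers_eq_of_ne_top hc1.1 (lcs_one_le_tsc 1) hy1 hy0]
          exact sup_le (fun w hw => mem_cmod.2 (commutator_mem_lcs_succ hw s))
            (zpowers_le.2 (mem_cmod.2 e))
        have htop : tsc G 1 ⊔ zpowers s = ⊤ := hc1.2 _ (lt_of_le_of_ne le_sup_left fun e =>
          hs1 (e ▸ mem_sup_right (mem_zpowers s)))
        have h2 : ⁅tsc G 1, ⊤⁆ ≤ lcs G 2 := by
          rw [← htop]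
          refine H7.commutator_sup_right_le _ _ _ _ (h.mcT_self hn 0) ?_
          rw [commutator_le]
          intro w hw z hz
          have : zpowers s ≤ cmod (lcs G 2) w := zpowers_le.2 (mem_cmod'.2 (mem_cmod.1 (h1 hw)))
          exact mem_cmod'.1 (this hz)
        exact (lcs_succ_lt (h.lcs_ne_bot (i := 1) h.three_le)).not_ge
          ((h.mcs_succ_le_commutator hn 0).trans h2)
      · exact fun e => hs i hi0 (by omega) ((h.mem_tsc_iff hi0 (hal i) (ih (by omega))).2 e)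
  let π := QuotientGroup.mk' (lcs G (ρ + 3))
  have hz : ∀ x ∈ lcs G (ρ + 2), ∀ g, g * π x = π x * g := fun x hx g => by
    obtain ⟨g, rfl⟩ := QuotientGroup.mk'_surjective _ g
    exact ((H7.commutatorElement_mem_iff_commute _ _ _).1 (commutator_mem_lcs_succ' hx g)).eq
  have hcl : ∀ i j, i + j = ρ → ⁅a i, a j⁆ ∈ lcs G (ρ + 1) := fun i j hij =>
    hij ▸ commutator_mem_lcs (hal i) (hal j)
  -- `t i j = π ⁅⁅a i, a j⁆, s⁆` alternates
  have halt : ∀ i j, i + j + 1 = ρ → π ⁅⁅a (i + 1), a j⁆, s⁆ * π ⁅⁅a i, a (j + 1)⁆, s⁆ = 1 := by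
    intro i j hij
    have h1 := jacobi_lcs (hal i) (hal j) s
    have h2 : ⁅⁅a i, a j⁆, s⁆ ∈ lcs G (i + j + 3) := commutator_mem_lcs_succ
      (h.mcT_of_lt hn hρ (i := i) (j := j) (by omega)
        (commutator_mem_commutator (ham i) (ham j))) s
    rw [QuotientGroup.mk'_apply, (QuotientGroup.eq_one_iff _).2 h2, ← map_mul, eq_comm,
      QuotientGroup.mk'_apply, QuotientGroup.eq_one_iff, ← has, ← has,
      show i + j + 3 = ρ + 2 by omega] at h1
    have h3 : π ⁅⁅a (i + 1), a j⁆ * ⁅a i, a (j + 1)⁆, s⁆ = 1 :=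
      (QuotientGroup.eq_one_iff _).2 (commutator_mem_lcs_succ h1 s)
    have h4 := hz _ (commutator_mem_lcs_succ (hcl i (j + 1) (by omega)) s)
    generalize ⁅a (i + 1), a j⁆ = c at *
    generalize ⁅a i, a (j + 1)⁆ = d at *
    have e : ⁅c * d, s⁆ = c * ⁅d, s⁆ * c⁻¹ * ⁅c, s⁆ := by
      simp only [commutatorElement_def]; group
    rw [e, map_mul, map_mul, map_mul, h4, map_inv, mul_inv_cancel_right, ← h4] at h3
    exact h3
  set t := π ⁅⁅a 0, a ρ⁆, s⁆ with ht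
  have htv : ∀ i j, i + j = ρ → π ⁅⁅a i, a j⁆, s⁆ = t ^ ((-1 : ℤ) ^ i) := by
    intro i
    induction i with
    | zero =>
      intro j hj
      obtain rfl : j = ρ := by omega
      rw [pow_zero, zpow_one]
    | succ i ih =>
      intro j hj
      have := halt i j (by omega)
      rw [ih (j + 1) (by omega), mul_eq_one_iff_eq_inv] at this
      rw [this, ← zpow_neg, pow_succ, mul_neg_one]
  have hbv : ∀ i j, i + j = ρ + 1 → π ⁅a i, a j⁆ = t ^ (-(-1 : ℤ) ^ i * i) := by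
    intro i
    induction i with
    | zero =>
      intro j hj
      obtain rfl : j = ρ + 1 := by omega
      rw [Nat.cast_zero, mul_zero, zpow_zero]
      refine (QuotientGroup.eq_one_iff _).2 ?_
      rw [← inv_mem_iff, commutatorElement_inv]
      exact mem_tsc.1 (h.le_tsc_succ_of_first hρ1 hρ hne hy1) _ (hal _)
    | succ i ih =>
      intro j hj
      have h1 := jacobi_lcs (hal i) (hal j) s
      rw [show i + j + 3 = ρ + 3 by omega] at h1
      change π _ = π _ * π _ at h1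
      rw [← has, ← has, htv i j (by omega), ih (j + 1) (by omega), eq_comm,
        ← eq_mul_inv_iff_mul_eq, ← zpow_neg, ← zpow_add] at h1
      rw [h1]
      congr 1
      push_cast
      ring
  have ht1 : t ≠ 1 := by
    intro e
    have h1 : ⁅a 0, a ρ⁆ ∉ lcs G (ρ + 1 + 1) := fun e' => hyρ
      ((h.mem_tsc_iff hρ1 (hal ρ) (han ρ le_rfl)).2 (by
        rw [← inv_mem_iff, commutatorElement_inv]; exact e'))
    exact hs (ρ + 1) (by omega) le_rfl
      ((h.mem_tsc_iff (by omega) (hcl 0 ρ (by omega)) h1).2 ((QuotientGroup.eq_one_iff _).1 e))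
  have htk := hbv k k (by omega)
  rw [commutatorElement_self, map_one, eq_comm, ← orderOf_dvd_iff_zpow_eq_one] at htk
  have htk' : orderOf t ∣ k := by
    have hu : IsUnit (-(-1 : ℤ) ^ k) := (isUnit_neg_one.pow k).neg
    exact_mod_cast (hu.dvd_mul_left).1 htk
  obtain ⟨m, hm⟩ := IsPGroup.iff_orderOf.1 (h.isPGroup.to_quotient (lcs G (ρ + 3))) t
  rcases m with _ | m
  · exact absurd (orderOf_eq_one_iff.1 hm) ht1
  · exact (dvd_pow_self p m.succ_ne_zero).trans (hm ▸ htk')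

theorem lt_of_first (h : MaxClass p n G) {ρ : ℕ} (hρ1 : 1 ≤ ρ)
    (hρ : ∀ i, 1 ≤ i → i < ρ → tsc G 1 ≤ tsc G i) (hne : ¬ tsc G 1 ≤ tsc G ρ) :
    ρ + 2 < 2 * p := by
  by_contra hle
  have := h.isPGroup.isNilpotent
  have hp2 := hp.out.two_le
  obtain ⟨hρn, hn⟩ := h.four_le_of_not_le hρ1 hne
  have hc1 := h.isCoatom_tsc (i := 1) le_rfl hn
  obtain ⟨s, hs1, hsρ⟩ := exists_not_mem_two (tsc G 1) (tsc G ρ) h.isPGroup hc1.1
    (tsc_ne_top (h.lcs_ne_bot (by omega)))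
  have hq : MaxClass p (ρ + 3) (G ⧸ lcs G (ρ + 2)) := h.quotient (m := ρ + 3) (by omega) hρn
  let π := QuotientGroup.mk' (lcs G (ρ + 2))
  have hπ : Function.Surjective π := QuotientGroup.mk'_surjective _
  have hk : ∀ i, i ≤ ρ + 2 → π.ker ≤ lcs G i := fun i hi => by
    rw [QuotientGroup.ker_mk']; exact lcs_anti hi
  have hs : Unif (π s) := by
    rw [hq.unif_iff]
    refine ⟨fun e => hs1 (lcs_one_le_tsc 1 ((map_mem_lcs_iff hπ (hk 1 (by omega))).1 e)),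
      fun i hi hi' e => ?_⟩
    rw [map_mem_tsc_iff hπ (hk _ (by omega))] at e
    rcases Nat.lt_or_ge i ρ with h1 | h1
    · rw [(hc1.le_iff.1 (hρ i hi h1)).resolve_left (tsc_ne_top (h.lcs_ne_bot (by omega)))] at e
      exact hs1 e
    · obtain rfl : i = ρ := by omega
      exact hsρ e
  have hab := hq.isMulCommutative_lcs (j := ρ - (p - 1)) (by omega) (by omega)
  have h1 := hq.tsc_le_tsc_add hs (j := ρ - (p - 1)) (by omega) le_rfl (by omega)
  rw [show ρ - (p - 1) + (p - 1) = ρ by omega] at h1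
  apply hne
  intro y hy
  rw [← map_mem_tsc_iff hπ (hk _ le_rfl)]
  exact h1 ((map_mem_tsc_iff hπ (hk _ (by omega))).2 (hρ _ (by omega) (by omega) hy))

/-- Blackburn: all two-step centralizers but possibly the last coincide. -/
theorem tsc_one_le (h : MaxClass p n G) {i : ℕ} (hi : 1 ≤ i) (hin : i + 4 ≤ n) :
    tsc G 1 ≤ tsc G i := by
  induction i using Nat.strong_induction_on with
  | h i ih =>
  by_contra hne
  have hρ : ∀ j, 1 ≤ j → j < i → tsc G 1 ≤ tsc G j := fun j hj hji => ih j hji hj (by omega)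
  obtain ⟨k, hk2, hk⟩ := h.odd_of_first hi hρ hne
  have h1 := Nat.le_of_dvd (by omega) (h.dvd_of_first hi hρ hne hin hk)
  have h2 := h.lt_of_first hi hρ hne
  omega

theorem tsc_eq (h : MaxClass p n G) {i : ℕ} (hi : 1 ≤ i) (hin : i + 4 ≤ n) :
    tsc G i = tsc G 1 := by
  have := h.isPGroup.isNilpotent
  exact ((h.isCoatom_tsc (i := 1) le_rfl (by omega)).le_iff.1 (h.tsc_one_le hi hin)).resolve_left
    (tsc_ne_top (h.lcs_ne_bot (by omega)))

/-- An exceptional group has even `n` with `6 ≤ n ≤ 2 p` (Blackburn's bound is `p + 1`). -/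
theorem exceptional (h : MaxClass p n G) {i : ℕ} (hi : 1 ≤ i) (hne : ¬ tsc G 1 ≤ tsc G i) :
    i + 3 = n ∧ n ≤ 2 * p ∧ 6 ≤ n ∧ Even n := by
  have h1 := (h.four_le_of_not_le hi hne).1
  have h2 : i + 3 = n := by
    by_contra e
    exact hne (h.tsc_one_le hi (by omega))
  have hρ : ∀ j, 1 ≤ j → j < i → tsc G 1 ≤ tsc G j := fun j hj hji => h.tsc_one_le hj (by omega)
  obtain ⟨k, hk2, hk⟩ := h.odd_of_first hi hρ hne
  have h3 := h.lt_of_first hi hρ hne
  exact ⟨h2, by omega, by omega, ⟨k + 1, by omega⟩⟩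

theorem unif_iff' (h : MaxClass p n G) (hn : 4 ≤ n) {x : G} :
    Unif x ↔ x ∉ tsc G 1 ∧ x ∉ tsc G (n - 3) := by
  rw [h.unif_iff]
  constructor
  · exact fun hx => ⟨hx.2 1 le_rfl hn, hx.2 _ (by omega) (by omega)⟩
  · rintro ⟨h1, h2⟩
    refine ⟨fun e => h1 (lcs_one_le_tsc 1 e), fun i hi hin => ?_⟩
    rcases Nat.lt_or_ge (i + 3) n with h3 | h3
    · rwa [h.tsc_eq hi h3]
    · rwa [show i = n - 3 by omega]

/-- Every proper subgroup misses some uniform element. -/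
theorem exists_unif_not_mem (h : MaxClass p n G) {M : Subgroup G} (hM : M ≠ ⊤) :
    ∃ s, s ∉ M ∧ Unif s := by
  have := h.isPGroup.isNilpotent
  have h3 := h.three_le
  by_cases hn : n = 3
  · obtain ⟨s, -, hs⟩ := SetLike.exists_of_lt (lt_top_iff_ne_top.2 (h.sup_lcs_one_ne_top hM))
    exact ⟨s, fun e => hs (mem_sup_left e), h.unif_iff.2
      ⟨fun e => hs (mem_sup_right e), fun i hi hin => by omega⟩⟩
  have hn4 : 4 ≤ n := by omega
  have h1 : tsc G 1 ≠ ⊤ := tsc_ne_top (h.lcs_ne_bot hn4)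
  have h2 : tsc G (n - 3) ≠ ⊤ := tsc_ne_top (h.lcs_ne_bot (by omega))
  by_cases hp2 : p = 2
  · obtain ⟨s, hs, hs1⟩ := exists_not_mem_two M _ h.isPGroup hM h1
    refine ⟨s, hs, (h.unif_iff' hn4).2 ⟨hs1, ?_⟩⟩
    have hle : tsc G 1 ≤ tsc G (n - 3) := by
      by_contra hne
      have := h.exceptional (by omega) hne
      omega
    rwa [((h.isCoatom_tsc (i := 1) le_rfl hn4).le_iff.1 hle).resolve_left h2]
  · obtain ⟨s, hs, hs1, hs2⟩ := exists_not_mem_three M _ _ h.isPGroup hp2 hM h1 h2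
    exact ⟨s, hs, (h.unif_iff' hn4).2 ⟨hs1, hs2⟩⟩

theorem exists_unif (h : MaxClass p n G) : ∃ s : G, Unif s := by
  have : (⊥ : Subgroup G) ≠ ⊤ := fun e => h.lcs_ne (le_bot_iff.1 (e ▸ le_top))
  obtain ⟨s, -, hs⟩ := h.exists_unif_not_mem this
  exact ⟨s, hs⟩

end MaxClass

end Cfsg.Agent.H2
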