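import Cfsg.Agent.H2.ZC1
import Cfsg.Agent.H3.Taussky
import Cfsg.Agent.H8.ThompsonTransfer

/-!
The case where `Ω₁(Z(S))` has order two.
-/

set_option autoImplicit false
set_option linter.unusedSectionVars false

namespace Cfsg.Agent.H2.ZC

open Subgroup Cfsg Cfsg.Agent Cfsg.Agent.FT
open scoped commutatorElement

universe u

variable {G : Type u} [Group G] [Finite G]

theorem exists_index_le_two {P : Type u} [Group P] [Finite P] (hP : IsPGroup 2 P) {t : P}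
    (ht : 𝐨(𝐂[t]) ≤ 4) : ∃ x : P, (zpowers x).index ≤ 2 := by
  obtain ⟨n, hn⟩ := IsPGroup.iff_card.1 hP
  have h1 := (H3.card_centralizer_quot_le (_root_.commutator P) t).trans ht
  have h2 : 𝐂[QuotientGroup.mk' (_root_.commutator P) t] = ⊤ := by
    rw [eq_top_iff]
    intro y _
    obtain ⟨y, rfl⟩ := QuotientGroup.mk'_surjective _ y
    rw [mem_cent1, ← map_mul, ← map_mul, QuotientGroup.mk'_apply, QuotientGroup.mk'_apply,
      QuotientGroup.eq]
    have := commutator_mem_commutator (mem_top y⁻¹) (mem_top t⁻¹)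
    rw [commutatorElement_def] at this
    rw [show (t * y)⁻¹ * (y * t) = y⁻¹ * t⁻¹ * y⁻¹⁻¹ * t⁻¹⁻¹ by group]
    exact this
  rw [h2, card_top] at h1
  by_cases h4 : (_root_.commutator P).index = 4
  · exact H3.taussky_aux n P hn h4
  obtain ⟨k, hk⟩ := IsPGroup.iff_card.1 (hP.to_quotient (_root_.commutator P))
  have hk2 : k < 2 := by
    by_contra hcon
    have : 2 ^ 2 ≤ 2 ^ k := Nat.pow_le_pow_right two_pos (by omega)
    apply h4
    change Nat.card (P ⧸ _root_.commutator P) = 4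
    omega
  have hc : IsCyclic (P ⧸ _root_.commutator P) :=
    isCyclic_of_card_dvd_prime (p := 2) (hk ▸ (pow_dvd_pow 2 (by omega : k ≤ 1)).trans (by simp))
  obtain ⟨x, hx⟩ := (H3.isCyclic_of_isCyclic_quotient_commutator hP hc).exists_generator
  exact ⟨x, by rw [(eq_top_iff' _).2 hx, index_top]; norm_num⟩

theorem eq_or_eq_of_mem_zpowers {z a : G} (hz : z ^ 2 = 1) (ha : a ∈ zpowers z) :
    a = 1 ∨ a = z := by
  obtain ⟨k, rfl⟩ := ha
  have hz' : z ^ (2 : ℤ) = 1 := by exact_mod_cast hz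
  rcases Int.even_or_odd' k with ⟨j, rfl | rfl⟩
  · left; simp [zpow_mul, hz']
  · right; simp [zpow_add, zpow_mul, hz']

theorem isElem_two {z t : G} (z1 : z ≠ 1) (z2 : z ^ 2 = 1) (t1 : t ≠ 1) (t2 : t ^ 2 = 1)
    (hne : t ≠ z) (hc : t ∈ 𝐂[z]) : IsElem 2 2 (zpowers z ⊔ zpowers t) :=
  isElem_sup_zpowers ((isElem_one_iff Nat.prime_two).2
    (by rw [Nat.card_zpowers]; exact orderOf_eq_prime z2 z1))
    (fun h => (eq_or_eq_of_mem_zpowers z2 h).elim t1 hne) t2 (by rwa [cent_zpowers])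

theorem relIndex_cent_le_two {S V : Subgroup G} (hS : IsPGroup 2 S) (hV : IsElem 2 2 V)
    (hn : S ≤ 𝐍(V)) : 𝐂(V).relIndex S ≤ 2 := by
  obtain ⟨n, hn'⟩ := exists_card_eq_pow Nat.prime_two hS
  obtain ⟨k, -, hk⟩ := (Nat.dvd_prime_pow Nat.prime_two).1 (hn' ▸ relIndex_dvd_card' 𝐂(V) S)
  have h := not_sq_dvd_relIndex_cent_elem2 Nat.prime_two hV.1 hV.2.le hn
  rw [hk, Nat.pow_dvd_pow_iff_le_right one_lt_two] at h
  rw [hk]
  exact (Nat.pow_le_pow_right two_pos (by omega : k ≤ 1)).trans (by norm_num)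

/-- Thompson's transfer lemma in `O²(G)`. -/
theorem exists_conj_mem {S X : Subgroup G} (hS : IsSyl 2 S ⊤) (hX : X ≤ S)
    (hi : X.relIndex S ≤ 2) {s : G} (hs : s ∈ S) (hsH : s ∈ pResidual 2 G) (h2 : s ^ 2 = 1) :
    ∃ h : G, h * s * h⁻¹ ∈ X := by
  by_contra hcon
  push Not at hcon
  have hR := hS.inf_normal Nat.prime_two (K := pResidual 2 G)
    ⟨le_top, (normalizer_eq_top _).ge⟩
  have a1 : X.relIndex (S ⊓ pResidual 2 G) = 2 := by
    have b1 := (relIndex_le_of_le_right (inf_le_left : S ⊓ pResidual 2 G ≤ S)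
      (H := X) index_ne_zero_of_finite).trans hi
    have b2 : X.relIndex (S ⊓ pResidual 2 G) ≠ 0 := index_ne_zero_of_finite
    have b3 : X.relIndex (S ⊓ pResidual 2 G) ≠ 1 := fun e =>
      hcon 1 (by simpa using relIndex_eq_one.1 e (mem_inf.2 ⟨hs, hsH⟩))
    omega
  have a2 : (X.subgroupOf (pResidual 2 G)).index =
      2 * (S ⊓ pResidual 2 G).relIndex (pResidual 2 G) := by
    have b : X.relIndex (pResidual 2 G) = X.relIndex (S ⊓ pResidual 2 G) *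
        (S ⊓ pResidual 2 G).relIndex (pResidual 2 G) := by
      rw [← inf_relIndex_right X (S ⊓ _), relIndex_mul_relIndex _ _ _ inf_le_right inf_le_right,
        ← inf_assoc, inf_of_le_left hX, inf_relIndex_right]
    rw [a1] at b
    exact b
  obtain ⟨N, hN, hi2, -⟩ := H8.exists_normal_index_two_of_not_conj _
    (Nat.not_even_iff_odd.1 fun h => hR.ndvd (even_iff_two_dvd.1 h)) a2 (t := ⟨s, hsH⟩)
    (Subtype.ext h2) fun g => hcon g
  have := H8.pResidual_le_of_isPGroup_quotient (p := 2) (N := N)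
    (IsPGroup.of_card (n := 1) (by rw [pow_one]; exact hi2))
  rw [H8.pResidual_pResidual, top_le_iff] at this
  rw [this, index_top] at hi2
  norm_num at hi2

/-- `z` is the unique involution in the centre of the Sylow `2`-subgroup `S ⊲ C(z)`. -/
structure Cen (S : Subgroup G) (z : G) : Prop where
  syl : IsSyl 2 S ⊤
  ne_one : z ≠ 1
  sq : z ^ 2 = 1
  mem : z ∈ S
  cent : S ≤ 𝐂[z]
  uniq : ∀ u ∈ 𝐙(S), u ≠ 1 → u ^ 2 = 1 → u = z
  norm : 𝐂[z] ≤ 𝐍(S)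

namespace Cen

variable {S : Subgroup G} {z : G} (h : Cen S z)
include h

theorem le {Q : Subgroup G} (hQ : IsPGroup 2 Q) (hc : Q ≤ 𝐂[z]) : Q ≤ S :=
  h.syl.le_of_norm Nat.prime_two hQ le_top (hc.trans h.norm)

theorem le_conj {Q : Subgroup G} (hQ : IsPGroup 2 Q) {g : G} (hc : Q ≤ 𝐂[g * z * g⁻¹]) :
    Q ≤ S ^ᵍ g := by
  rw [cent1_conj] at hc
  exact le_conj_iff.2 (h.le (hQ.map _) (le_conj_iff.1 hc))

theorem oc_le_cent : oc z ≤ 𝐂(S) :=
  le_cent_of_norm_of_coprime ((oc_le z).trans h.norm) (h.cent.trans (le_norm_oc z))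
    (H1.coprime_card_of_isPGroup h.syl.pgrp (oc_cop z)).symm

theorem oc_conj_eq (hC : CSolv G) {g : G} (hg : g * z * g⁻¹ ∈ S) : oc (g * z * g⁻¹) = oc z := by
  refine (H1.eq_of_le_of_card_le ?_ (by rw [oc_conj, card_conj])).symm
  exact (le_inf le_rfl (h.oc_le_cent.trans (cent_le_cent1 hg))).trans
    (hC.bal h.sq (by simpa using h.ne_one) (by rw [conj_pow, h.sq]; group)
      (mem_cent1_comm.1 (h.cent hg)))

theorem mem_of_normal {N : Subgroup G} (hN : N ⊲ S) (h1 : N ≠ ⊥) : z ∈ N := by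
  obtain ⟨u, hu, hu2⟩ := exists_mem_orderOf_eq_prime Nat.prime_two (prime_dvd_card_of_isPGroup
    Nat.prime_two (h.syl.pgrp.to_le (inf_le_left.trans hN.1))
    (inf_center_ne_bot (isNilpotent_of_isPGroup Nat.prime_two h.syl.pgrp) hN h1))
  rw [← h.uniq u (inf_le_inf_right _ hN.1 hu) (by rintro rfl; simp at hu2)
    (hu2 ▸ pow_orderOf_eq_one u)]
  exact (mem_inf.1 hu).1

theorem oc_le_of_cyc (hC : CSolv G) {x : G} (hx : x ∈ S) (hi : (zpowers x).relIndex S ≤ 2)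
    {s : G} (hs : s ∈ S) (hsH : s ∈ pResidual 2 G) (h1 : s ≠ 1) (h2 : s ^ 2 = 1) :
    oc s ≤ oc z := by
  obtain ⟨g, hg⟩ := exists_conj_mem h.syl (zpowers_le.2 hx) hi hs hsH h2
  have hn : S ≤ 𝐍(zpowers x) := by
    have b2 : (zpowers x).relIndex S ≠ 0 := index_ne_zero_of_finite
    by_cases b3 : (zpowers x).relIndex S = 1
    · exact (relIndex_eq_one.1 b3).trans (le_norm_self _)
    · exact (normal_subgroupOf_iff_le_normalizer (zpowers_le.2 hx)).1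
        (normal_of_index_eq_two (by change (zpowers x).relIndex S = 2; omega))
  have a1 := h.mem_of_normal (N := zpowers (g * s * g⁻¹))
    ⟨zpowers_le.2 (zpowers_le.2 hx hg), hn.trans (norm_le_norm_of_le_cyclic inferInstance
      (zpowers_le.2 hg))⟩ (by simpa using h1)
  have a2 := (eq_or_eq_of_mem_zpowers (by rw [conj_pow, h2]; group) a1).resolve_left h.ne_one
  have a3 : g⁻¹ * z * g⁻¹⁻¹ = s := by rw [a2]; group
  rw [← a3]
  exact (h.oc_conj_eq hC (a3 ▸ hs)).le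

theorem oc_le_of_wc_le (hC : CSolv G) {V : Subgroup G} (hV : IsElem 2 2 V) (hn : S ≤ 𝐍(V))
    (hW : wc V ≤ 𝐂[z]) {s : G} (hs : Ext S s) (hsH : s ∈ pResidual 2 G) (h1 : s ≠ 1)
    (h2 : s ^ 2 = 1) : oc s ≤ oc z := by
  obtain ⟨g, hg⟩ := exists_conj_mem h.syl (inf_le_right : 𝐂(V) ⊓ S ≤ S)
    (by rw [inf_relIndex_right]; exact relIndex_cent_le_two h.syl.pgrp hV hn) hs.1 hsH h2
  have a1 := (hC.oc_le_wc hV (by simpa using h1) (by rw [conj_pow, h2]; group)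
    (mem_inf.1 hg).1).trans hW
  have a2 : g⁻¹ * (g * s * g⁻¹) * g⁻¹⁻¹ = s := by group
  obtain ⟨x, hx, hx'⟩ := Ext.exists_conj h.syl (a2.symm ▸ hs)
  rw [a2] at hx
  have a3 := h.cent (mem_inf.1 hg).2
  have a4 : x * z * x⁻¹ ∈ S := hx' (conj_mem_conj (mem_inf.2 ⟨h.mem, mem_cent1_comm.1 a3⟩) x)
  rw [← h.oc_conj_eq hC a4]
  refine (le_inf le_rfl ?_).trans (hC.bal h2 (by simpa using h.ne_one)
    (by rw [conj_pow, h.sq]; group) ?_)
  · rw [← hx, oc_conj, cent1_conj]; exact conj_mono a1 x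
  · rw [← hx, cent1_conj]; exact conj_mem_conj a3 x

theorem wc_le_cent (hC : CSolv G) {V : Subgroup G} (hV : IsElem 2 2 V) (hn : S ≤ 𝐍(V)) {g u : G}
    (hg : g * z * g⁻¹ ∈ S) (hne : g * z * g⁻¹ ≠ z) (huS : u ∈ S) (huV : u ∈ 𝐂(V))
    (hut : u ∈ 𝐂[g * z * g⁻¹]) (hVS : V ≤ S) (u1 : u ≠ 1) (u2 : u ^ 2 = 1) (uz : u ≠ z) :
    wc V ≤ 𝐂[z] := by
  have ot := h.oc_conj_eq hC hg
  have t1 : g * z * g⁻¹ ≠ 1 := by simpa using h.ne_one
  have t2 : (g * z * g⁻¹) ^ 2 = 1 := by rw [conj_pow, h.sq]; group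
  generalize g * z * g⁻¹ = t at *
  have hE := isElem_two h.ne_one h.sq u1 u2 uz (h.cent huS)
  have hB := isElem_two h.ne_one h.sq t1 t2 hne (h.cent hg)
  have e1 := hC.wc_eq_of_cent hE hV (sup_le (zpowers_le.2 (mem_cent_iff_cent1.2
    (hVS.trans h.cent))) (zpowers_le.2 huV))
  have e2 := hC.wc_eq_of_cent hB hE (by
    rw [cent_sup, cent_zpowers, cent_zpowers]
    exact sup_le (zpowers_le.2 (mem_inf.2 ⟨self_mem_cent1 z, mem_cent1_comm.1 (h.cent huS)⟩))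
      (zpowers_le.2 (mem_inf.2 ⟨h.cent hg, mem_cent1_comm.1 hut⟩)))
  have zt : z * t ∈ S := mul_mem h.mem hg
  have e3 : wc V ≤ 𝐂[z * t] := by
    rw [← e1, ← e2]
    refine wc_le fun b hb b1 => ?_
    obtain ⟨a, ha, c, hc, rfl⟩ := (mem_sup_of_norm ((zpowers_le.2 (by
      rw [cent_zpowers]; exact h.cent hg)).trans (cent_le_norm _))).1 hb
    have o1 : oc z ≤ 𝐂[z * t] := h.oc_le_cent.trans (cent_le_cent1 zt)
    rcases eq_or_eq_of_mem_zpowers h.sq ha with rfl | rfl <;>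
      rcases eq_or_eq_of_mem_zpowers t2 hc with rfl | rfl
    · simp at b1
    · rw [one_mul, ot]; exact o1
    · rw [mul_one]; exact o1
    · exact oc_le _
  have hnW : S ≤ 𝐍(wc V) := fun x hx => by
    rw [← conj_eq_self_iff, ← wc_conj, conj_eq_of_mem_norm (hn hx)]
  have := h.mem_of_normal (N := S ⊓ 𝐂(wc V)) ⟨inf_le_left, H1.le_normalizer_inf (le_norm_self S)
    (H1.le_normalizer_centralizer hnW)⟩ (sharp_nonempty.1 ⟨z * t, mem_inf.2 ⟨zt,
      mem_cent_iff_cent1.2 e3⟩, fun e => hne (by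
        rw [eq_inv_of_mul_eq_one_right e, inv_eq_iff_mul_eq_one, ← pow_two, h.sq])⟩)
  exact mem_cent_iff_cent1.1 (mem_inf.1 this).2

theorem oc_le_of_ext (hC : CSolv G) {g : G} (hg : g * z * g⁻¹ ∈ S) (hne : g * z * g⁻¹ ≠ z)
    {s : G} (hs : Ext S s) (hsH : s ∈ pResidual 2 G) (h1 : s ≠ 1) (h2 : s ^ 2 = 1) :
    oc s ≤ oc z := by
  have pS := h.syl.pgrp
  by_cases hcyc : ∃ x : S, (zpowers x).index ≤ 2
  · obtain ⟨x, hx⟩ := hcyc
    refine h.oc_le_of_cyc hC x.2 ?_ hs.1 hsH h1 h2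
    rwa [← S.subtype_apply, ← MonoidHom.map_zpowers, relIndex, subgroupOf,
      comap_map_eq_self_of_injective S.subtype_injective]
  obtain ⟨V, hVS, hn, hV⟩ : ∃ V : Subgroup G, V ≤ S ∧ S ≤ 𝐍(V) ∧ IsElem 2 2 V := by
    by_contra hcon
    apply hcyc
    rcases H3.normal_abelian_cyclic_cases pS (fun A hA hab => by
      by_contra hnc
      obtain ⟨E, hE, -, h1, h2⟩ := H3.exists_normal_elementary_sq_le pS A hab hnc
      exact hcon ⟨E.map S.subtype, map_subtype_le E, le_normalizer_map_subtype E,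
        (isElem_map_iff S.subtype_injective).2 ⟨h1, h2⟩⟩) with hc | ⟨-, n, x, y, -, -, hx, -⟩
    · obtain ⟨x, hx⟩ := hc.exists_generator
      exact ⟨x, by rw [(eq_top_iff' _).2 hx, index_top]; norm_num⟩
    · exact ⟨x, hx.le⟩
  by_cases hW : wc V ≤ 𝐂[z]
  · exact h.oc_le_of_wc_le hC hV hn hW hs hsH h1 h2
  exfalso
  have key : ∀ {g u : G}, g * z * g⁻¹ ∈ S → g * z * g⁻¹ ≠ z → u ∈ S → u ∈ 𝐂(V) →
      u ∈ 𝐂[g * z * g⁻¹] → u ≠ 1 → u ^ 2 = 1 → u = z := by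
    intro g u a b c d e f i
    by_contra j
    exact hW (h.wc_le_cent hC hV hn a b c d e hVS f i j)
  obtain ⟨D, hD⟩ : ∃ D, D = S ⊓ 𝐂[g * z * g⁻¹] := ⟨_, rfl⟩
  have hDS : D ≤ S := hD ▸ inf_le_left
  have hDt : D ≤ 𝐂[g * z * g⁻¹] := hD ▸ inf_le_right
  have hDS' : D ≤ S ^ᵍ g := h.le_conj (pS.to_le hDS) hDt
  have hz : g⁻¹ * z * g⁻¹⁻¹ ∈ S := by
    rw [inv_inv]
    exact mem_conj.1 (hDS' (hD ▸ mem_inf.2 ⟨h.mem, mem_cent1_comm.1 (h.cent hg)⟩))
  have a1 : (𝐂(V) ⊓ 𝐂(V ^ᵍ g)) ⊓ D = ⊥ := by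
    by_contra hcon
    obtain ⟨u, hu, hu2⟩ := exists_mem_orderOf_eq_prime Nat.prime_two (prime_dvd_card_of_isPGroup
      Nat.prime_two (pS.to_le (inf_le_right.trans hDS)) hcon)
    have u1 : u ≠ 1 := by rintro rfl; simp at hu2
    have u2 : u ^ 2 = 1 := hu2 ▸ pow_orderOf_eq_one u
    obtain ⟨hu1, huD⟩ := mem_inf.1 hu
    have b1 := key hg hne (hDS huD) (mem_inf.1 hu1).1 (hDt huD) u1 u2
    have b2 := key (u := g⁻¹ * u * g⁻¹⁻¹) hz (fun e => hne (by
        conv_lhs => rw [← e]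
        group)) (by rw [inv_inv]; exact mem_conj.1 (hDS' huD))
      (by rw [inv_inv, ← mem_conj, ← cent_conj]; exact (mem_inf.1 hu1).2)
      (by rw [cent1_conj]; exact conj_mem_conj (h.cent (hDS huD)) _) (fun e => u1 (conj_eq_one_iff.1 e))
      (by rw [conj_pow, u2]; group)
    apply hne
    conv_lhs => rw [← b2]
    rw [← b1]; group
  have a2 : 𝐨(D) ≤ 4 := by
    have b1 := H1.card_inf_mul_relIndex (𝐂(V) ⊓ 𝐂(V ^ᵍ g)) D
    rw [a1, card_bot, one_mul] at b1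
    have b2 := relIndex_cent_le_two (pS.to_le hDS) hV (hDS.trans hn)
    have b3 := relIndex_cent_le_two (pS.to_le hDS) (hV.conj g)
      (hDS'.trans (conj_le_norm_iff.2 hn))
    rw [← b1]
    exact relIndex_inf_le.trans (Nat.mul_le_mul b2 b3)
  refine hcyc (exists_index_le_two pS (t := ⟨_, hg⟩) ?_)
  have := map_inf_cent1 S.subtype_injective ⊤ ⟨_, hg⟩
  rw [top_inf_eq, ← MonoidHom.range_eq_map, range_subtype] at this
  rwa [← card_map_inj S.subtype_injective, this, subtype_apply, ← hD]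

end Cen

end Cfsg.Agent.H2.ZC
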